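import Mathlib
import Cfsg.Agent.Lib.Coprime.Action
import Cfsg.Agent.Lib.Coprime.Generation

/-!
A group of order `q²` and exponent `q` acting coprimely, with trivial common fixed points and
abelian centralizers: the tools used in the proof that such a group is solvable.
-/

set_option autoImplicit false
set_option linter.style.haveILetI false
set_option linter.unusedSectionVars false

open scoped commutatorElement

namespace CfsgLib.CoprimePlane

open CfsgLib.Coprime

variable {X : Type*} [Group X]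

theorem mem_cent_singleton {a x : X} :
    x ∈ Subgroup.centralizer ({a} : Set X) ↔ a * x = x * a := by
  rw [Subgroup.mem_centralizer_iff]
  simp

theorem mem_normalizer_of_conj_le [Finite X] {K : Subgroup X} {g : X}
    (h : ∀ x ∈ K, g * x * g⁻¹ ∈ K) : g ∈ Subgroup.normalizer (K : Set X) := by
  rw [mem_normalizer_iff_conj_smul]
  refine Subgroup.eq_of_le_of_card_ge ?_ (card_conj_smul g K).ge
  rintro _ ⟨x, hx, rfl⟩
  exact h x hx

theorem conj_mem {K : Subgroup X} {g x : X} (hg : g ∈ Subgroup.normalizer (K : Set X)) (hx : x ∈ K) :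
    g * x * g⁻¹ ∈ K :=
  (Subgroup.mem_normalizer_iff.mp hg x).mp hx

theorem conj_inv_mem {K : Subgroup X} {g x : X} (hg : g ∈ Subgroup.normalizer (K : Set X))
    (hx : x ∈ K) : g⁻¹ * x * g ∈ K := by
  simpa using conj_mem (inv_mem hg) hx

/-- Two subgroups which normalize each other and meet trivially commute. -/
theorem commute_of_inf_eq_bot {H K : Subgroup X} (hH : H ≤ Subgroup.normalizer (K : Set X))
    (hK : K ≤ Subgroup.normalizer (H : Set X)) (hi : H ⊓ K = ⊥) :
    H ≤ Subgroup.centralizer (K : Set X) := by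
  intro h hh k hk
  have h1 : h * k * h⁻¹ * k⁻¹ ∈ H ⊓ K := by
    refine Subgroup.mem_inf.mpr ⟨?_, mul_mem (conj_mem (hH hh) hk) (inv_mem hk)⟩
    rw [show h * k * h⁻¹ * k⁻¹ = h * (k * h⁻¹ * k⁻¹) by group]
    exact mul_mem hh (conj_mem (hK hk) (inv_mem hh))
  rw [hi, Subgroup.mem_bot, mul_inv_eq_one, mul_inv_eq_iff_eq_mul] at h1
  exact h1.symm

theorem le_centralizer_symm {H K : Subgroup X} (h : H ≤ Subgroup.centralizer (K : Set X)) :
    K ≤ Subgroup.centralizer (H : Set X) := fun k hk x hx => (h hx k hk).symm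

theorem isPGroup_coprime [Finite X] {p r : ℕ} [Fact p.Prime] [Fact r.Prime] (hne : p ≠ r)
    {H K : Subgroup X} (hH : IsPGroup p H) (hK : IsPGroup r K) :
    (Nat.card H).Coprime (Nat.card K) :=
  IsPGroup.coprime_card_of_ne p r hne H K hH hK

theorem inf_eq_bot_of_isPGroup [Finite X] {p r : ℕ} [Fact p.Prime] [Fact r.Prime] (hne : p ≠ r)
    {H K : Subgroup X} (hH : IsPGroup p H) (hK : IsPGroup r K) : H ⊓ K = ⊥ :=
  inf_eq_bot_of_coprime_card (isPGroup_coprime hne hH hK)

/-- `a` fixes `P` modulo `Q` and only `1` in `Y`: then `Y` fixes `P` modulo `Q`. -/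
theorem fpf_fixes_mod [Finite X] {Y P Q : Subgroup X} {a : X}
    (haY : a ∈ Subgroup.normalizer (Y : Set X)) (haQ : a ∈ Subgroup.normalizer (Q : Set X))
    (hYP : Y ≤ Subgroup.normalizer (P : Set X)) (hYQ : Y ≤ Subgroup.normalizer (Q : Set X))
    (hP : ∀ k ∈ P, a * k * a⁻¹ * k⁻¹ ∈ Q) (hY : ∀ y ∈ Y, a * y = y * a → y = 1) :
    ∀ y ∈ Y, ∀ k ∈ P, y * k * y⁻¹ * k⁻¹ ∈ Q := by
  let φ : Y → Y := fun z =>
    ⟨(z : X)⁻¹ * (a * z * a⁻¹), mul_mem (inv_mem z.2) (conj_mem haY z.2)⟩
  have hinj : Function.Injective φ := by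
    intro z w h
    have h1 : (z : X)⁻¹ * (a * z * a⁻¹) = (w : X)⁻¹ * (a * w * a⁻¹) := congrArg Subtype.val h
    have h2 : a * ((z : X) * (w : X)⁻¹) = ((z : X) * (w : X)⁻¹) * a := by
      calc a * ((z : X) * (w : X)⁻¹)
          = z * ((z : X)⁻¹ * (a * z * a⁻¹)) * a * (w : X)⁻¹ := by group
        _ = z * ((w : X)⁻¹ * (a * w * a⁻¹)) * a * (w : X)⁻¹ := by rw [h1]
        _ = ((z : X) * (w : X)⁻¹) * a := by group
    exact Subtype.ext (mul_inv_eq_one.mp (hY _ (mul_mem z.2 (inv_mem w.2)) h2))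
  intro y hy k hk
  obtain ⟨z, hz⟩ := Finite.surjective_of_injective hinj ⟨y, hy⟩
  have hzy : y = (z : X)⁻¹ * (a * z * a⁻¹) := (congrArg Subtype.val hz).symm
  set q₂ := a⁻¹ * k * a * k⁻¹ with hq₂
  have hq₂m : q₂ ∈ Q := by
    have h1 := conj_inv_mem haQ (inv_mem (hP k hk))
    rwa [show a⁻¹ * (a * k * a⁻¹ * k⁻¹)⁻¹ * a = q₂ by rw [hq₂]; group] at h1
  set m := (z : X) * k * (z : X)⁻¹ with hm
  have hmP : m ∈ P := conj_mem (hYP z.2) hk
  set q₁ := a * m * a⁻¹ * m⁻¹ with hq₁
  set q₃ := a * ((z : X) * q₂ * (z : X)⁻¹) * a⁻¹ with hq₃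
  have hq₃m : q₃ ∈ Q := conj_mem haQ (conj_mem (hYQ z.2) hq₂m)
  have e : y * k * y⁻¹ * k⁻¹ = (z : X)⁻¹ * (q₃ * q₁) * z := by
    rw [hzy, hq₃, hq₁, hq₂, hm]
    group
  rw [e]
  exact conj_inv_mem (hYQ z.2) (mul_mem hq₃m (hP m hmP))

/-- `a` fixes `P` pointwise and only `1` in `Y`: then `Y` centralizes `P`. -/
theorem fpf_centralizes [Finite X] {Y P : Subgroup X} {a : X}
    (haY : a ∈ Subgroup.normalizer (Y : Set X)) (hYP : Y ≤ Subgroup.normalizer (P : Set X))
    (hP : ∀ k ∈ P, a * k = k * a) (hY : ∀ y ∈ Y, a * y = y * a → y = 1) :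
    Y ≤ Subgroup.centralizer (P : Set X) := by
  intro y hy k hk
  have hbot : ∀ g : X, g ∈ Subgroup.normalizer ((⊥ : Subgroup X) : Set X) := fun g =>
    mem_normalizer_of_conj_le fun x hx => by rw [Subgroup.mem_bot] at hx; simp [hx]
  have h := fpf_fixes_mod (Q := ⊥) haY (hbot a) hYP
    (fun x _ => hbot x) (fun k hk => by rw [hP k hk]; simp) hY y hy k hk
  rw [Subgroup.mem_bot, mul_inv_eq_one, mul_inv_eq_iff_eq_mul] at h
  exact h.symm

/-- In a Frobenius group `Y⟨c⟩` acting coprimely on `V`, a normal invariant `D` with abelian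
quotient containing `C_V(Y)` and `C_V(c)` is all of `V`. -/
theorem frobenius_span [Finite X] {V Y D : Subgroup X} {c : X} {q : ℕ} [hq : Fact q.Prime]
    (hsol : Group.IsSolvable V) (hc : c ^ q = 1) (hcY : c ∈ Subgroup.normalizer (Y : Set X))
    (hY : ∀ y ∈ Y, c * y = y * c → y = 1)
    (hYV : Y ≤ Subgroup.normalizer (V : Set X)) (hcV : c ∈ Subgroup.normalizer (V : Set X))
    (hcq : (Nat.card V).Coprime q) (hcop : (Nat.card Y).Coprime (Nat.card V))
    (hDV : D ≤ V) (hVD : ⁅V, V⁆ ≤ D) (hYD : Y ≤ Subgroup.normalizer (D : Set X))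
    (hcD : c ∈ Subgroup.normalizer (D : Set X))
    (h1 : V ⊓ Subgroup.centralizer (Y : Set X) ≤ D)
    (h2 : V ⊓ Subgroup.centralizer ({c} : Set X) ≤ D) : V ≤ D := by
  classical
  haveI : Fintype Y := Fintype.ofFinite Y
  set D' : Subgroup V := D.subgroupOf V with hD'
  have hcomm : ∀ x y : V, x * y * x⁻¹ * y⁻¹ ∈ D' := fun x y =>
    hVD (Subgroup.commutator_mem_commutator x.2 y.2)
  haveI : D'.Normal := ⟨fun d hd g => by
    rw [show g * d * g⁻¹ = g * d * g⁻¹ * d⁻¹ * d by group]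
    exact mul_mem (hcomm g d) hd⟩
  letI : CommGroup (V ⧸ D') :=
    { (inferInstance : Group (V ⧸ D')) with
      mul_comm := fun x y => by
        induction x using QuotientGroup.induction_on with
        | _ x =>
          induction y using QuotientGroup.induction_on with
          | _ y =>
            rw [← QuotientGroup.mk_mul, ← QuotientGroup.mk_mul, QuotientGroup.eq]
            rw [show (x * y)⁻¹ * (y * x) = y⁻¹ * x⁻¹ * y * x by group]
            have := hcomm y⁻¹ x⁻¹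
            simpa using this }
  set S : Subgroup X := Subgroup.normalizer (V : Set X) ⊓ Subgroup.normalizer (D : Set X) with hS
  have hYS : Y ≤ S := le_inf hYV hYD
  have hcS : c ∈ S := ⟨hcV, hcD⟩
  let cj : S → V →* V := fun g =>
    { toFun := fun v => ⟨(g : X) * v * (g : X)⁻¹, conj_mem g.2.1 v.2⟩
      map_one' := Subtype.ext (by simp)
      map_mul' := fun v w => Subtype.ext (by simp [mul_assoc]) }
  let σ : S → (V ⧸ D') →* (V ⧸ D') := fun g =>
    QuotientGroup.map D' D' (cj g) (fun v hv => conj_mem g.2.2 hv)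
  have σ_mk : ∀ (g : S) (v : V), σ g (v : V ⧸ D') = ((cj g v : V) : V ⧸ D') := fun g v => rfl
  have σ_mul : ∀ g h x, σ (g * h) x = σ g (σ h x) := by
    intro g h x
    induction x using QuotientGroup.induction_on with
    | _ v =>
      rw [σ_mk, σ_mk, σ_mk]
      exact congrArg _ (Subtype.ext (by simp [cj, mul_assoc]))
  have σ_one : ∀ x, σ 1 x = x := by
    intro x
    induction x using QuotientGroup.induction_on with
    | _ v =>
      rw [σ_mk]
      exact congrArg _ (Subtype.ext (by simp [cj]))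
  -- no fixed points in the quotient
  have hfixY : ∀ x, (∀ y : Y, σ ⟨y, hYS y.2⟩ x = x) → x = 1 := by
    intro x
    induction x using QuotientGroup.induction_on with
    | _ v =>
      intro h
      obtain ⟨w, hw, hwD⟩ := exists_centralizer_mem_coset hYV hcop (Or.inr hsol) hDV hYD v.2
        (fun y hy => by
          have h3 := h ⟨y, hy⟩
          rw [σ_mk, eq_comm, QuotientGroup.eq] at h3
          exact h3)
      rw [QuotientGroup.eq_one_iff]
      show (v : X) ∈ D
      have h4 : w ∈ D := h1 hw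
      simpa using mul_mem h4 (inv_mem hwD)
  have hfixc : ∀ x, σ ⟨c, hcS⟩ x = x → x = 1 := by
    intro x
    induction x using QuotientGroup.induction_on with
    | _ v =>
      intro h
      have hzV : Subgroup.zpowers c ≤ Subgroup.normalizer (V : Set X) := Subgroup.zpowers_le.mpr hcV
      have hzD : Subgroup.zpowers c ≤ Subgroup.normalizer (D : Set X) := Subgroup.zpowers_le.mpr hcD
      have hzc : (Nat.card (Subgroup.zpowers c)).Coprime (Nat.card V) := by
        rw [Nat.card_zpowers]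
        exact (Nat.Coprime.coprime_dvd_left (orderOf_dvd_of_pow_eq_one hc) hcq.symm)
      have hall : ∀ g ∈ Subgroup.zpowers c, (v : X)⁻¹ * (g * v * g⁻¹) ∈ D := by
        intro g hg
        have hgS : g ∈ S := ⟨hzV hg, hzD hg⟩
        have h3 : σ ⟨g, hgS⟩ (v : V ⧸ D') = (v : V ⧸ D') := by
          obtain ⟨n, rfl⟩ := (isOfFinOrder_of_finite c).mem_zpowers_iff_mem_range_orderOf.mp hg
            |> Finset.mem_image.mp |> fun ⟨n, _, hn⟩ => (⟨n, hn⟩ : ∃ n : ℕ, c ^ n = g)
          have e : (⟨c ^ n, hgS⟩ : S) = (⟨c, hcS⟩ : S) ^ n := Subtype.ext (by simp)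
          rw [e]
          clear e hgS hg
          induction n with
          | zero => rw [pow_zero, σ_one]
          | succ n ih => rw [pow_succ, σ_mul, h, ih]
        rw [σ_mk, eq_comm, QuotientGroup.eq] at h3
        exact h3
      obtain ⟨w, hw, hwD⟩ := exists_centralizer_mem_coset hzV hzc (Or.inr hsol) hDV hzD v.2 hall
      rw [QuotientGroup.eq_one_iff]
      show (v : X) ∈ D
      have h4 : w ∈ D := h2 ⟨hw.1,
        mem_cent_singleton.mpr (hw.2 c (Subgroup.mem_zpowers c))⟩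
      simpa using mul_mem h4 (inv_mem hwD)
  -- the norm along `Y` is trivial
  have hNY : ∀ x, ∏ y : Y, σ ⟨y, hYS y.2⟩ x = 1 := by
    intro x
    refine hfixY _ fun y => ?_
    rw [map_prod]
    refine Fintype.prod_equiv (Equiv.mulLeft y) _ _ fun z => ?_
    rw [← σ_mul]
    rfl
  -- the norm along `c` is trivial
  have hNc : ∀ x, ∏ k ∈ Finset.range q, σ (⟨c, hcS⟩ ^ k) x = 1 := by
    intro x
    refine hfixc _ ?_
    rw [map_prod]
    simp only [← σ_mul, ← pow_succ']
    have hq1 : (⟨c, hcS⟩ : S) ^ q = 1 := Subtype.ext (by simp [hc])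
    have e1 := Finset.prod_range_succ' (fun k => σ ((⟨c, hcS⟩ : S) ^ k) x) q
    rw [Finset.prod_range_succ, hq1, pow_zero] at e1
    exact (mul_right_cancel e1).symm
  intro v hv
  set x : V ⧸ D' := ((⟨v, hv⟩ : V) : V ⧸ D') with hx
  have htot : ∏ k ∈ Finset.range q, ∏ y : Y,
      σ ((⟨y, hYS y.2⟩ : S) * (⟨c, hcS⟩ : S) ^ k * (⟨y, hYS y.2⟩ : S)⁻¹) x = 1 := by
    rw [Finset.prod_comm]
    refine Finset.prod_eq_one fun y _ => ?_
    simp only [σ_mul]
    rw [← map_prod, hNc, map_one]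
  rw [Finset.prod_eq_single_of_mem 0 (Finset.mem_range.mpr hq.out.pos) ?_] at htot
  · simp only [pow_zero, mul_one, mul_inv_cancel, σ_one, Finset.prod_const, Finset.card_univ] at htot
    have h3 : orderOf x ∣ Fintype.card Y := orderOf_dvd_of_pow_eq_one htot
    rw [← Nat.card_eq_fintype_card] at h3
    have h4 : orderOf x ∣ Nat.card V :=
      (orderOf_dvd_natCard x).trans (Subgroup.card_quotient_dvd_card D')
    have h5 := orderOf_eq_one_iff.mp (Nat.eq_one_of_dvd_coprimes hcop h3 h4)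
    rw [hx, QuotientGroup.eq_one_iff] at h5
    exact h5
  intro k hk hk0
  have hkq : ¬ q ∣ k := fun h => hk0 (Nat.eq_zero_of_dvd_of_lt h (Finset.mem_range.mp hk))
  have hcY' : c ^ k ∈ Subgroup.normalizer (Y : Set X) := pow_mem hcY k
  let e : Y → Y := fun y =>
    ⟨(y : X) * (c ^ k * (y : X)⁻¹ * (c ^ k)⁻¹), mul_mem y.2 (conj_mem hcY' (inv_mem y.2))⟩
  have he : Function.Bijective e := by
    refine Finite.injective_iff_bijective.mp fun y z h => ?_
    have h3 : (y : X) * (c ^ k * (y : X)⁻¹ * (c ^ k)⁻¹) = z * (c ^ k * (z : X)⁻¹ * (c ^ k)⁻¹) :=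
      congrArg Subtype.val h
    have h4 : c ^ k * ((z : X)⁻¹ * y) = ((z : X)⁻¹ * y) * c ^ k := by
      calc c ^ k * ((z : X)⁻¹ * y)
          = (z : X)⁻¹ * (z * (c ^ k * (z : X)⁻¹ * (c ^ k)⁻¹)) * c ^ k * y := by group
        _ = (z : X)⁻¹ * (y * (c ^ k * (y : X)⁻¹ * (c ^ k)⁻¹)) * c ^ k * y := by rw [h3]
        _ = ((z : X)⁻¹ * y) * c ^ k := by group
    have h5 : c * ((z : X)⁻¹ * y) = ((z : X)⁻¹ * y) * c := by
      obtain ⟨j, hj⟩ := exists_pow_eq_self_of_coprime (x := c) (n := k)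
        (Nat.Coprime.coprime_dvd_right (orderOf_dvd_of_pow_eq_one hc)
          (Nat.coprime_comm.mp (hq.out.coprime_iff_not_dvd.mpr hkq)))
      rw [← hj]
      exact (Commute.pow_left h4 j)
    exact Subtype.ext (inv_mul_eq_one.mp (hY _ (mul_mem (inv_mem z.2) y.2) h5)).symm
  calc ∏ y : Y, σ ((⟨y, hYS y.2⟩ : S) * (⟨c, hcS⟩ : S) ^ k * (⟨y, hYS y.2⟩ : S)⁻¹) x
      = ∏ y : Y, σ ⟨(e y : X), hYS (e y).2⟩ (σ ((⟨c, hcS⟩ : S) ^ k) x) := by
        refine Finset.prod_congr rfl fun y _ => ?_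
        rw [← σ_mul]
        congr 2
        apply Subtype.ext
        simp only [e, Subgroup.coe_mul, InvMemClass.coe_inv, SubmonoidClass.coe_pow]
        group
    _ = ∏ y : Y, σ ⟨(y : X), hYS y.2⟩ (σ ((⟨c, hcS⟩ : S) ^ k) x) :=
        Fintype.prod_bijective e he _ _ fun _ => rfl
    _ = 1 := hNY _

/-- `Y⟨c⟩` Frobenius acting coprimely on a solvable `P`: if `Y` centralizes `C_P(c)`, it
centralizes `P`. -/
theorem frobenius_centralizes [Finite X] {Y : Subgroup X} {c : X} {q : ℕ} [Fact q.Prime]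
    (hc : c ^ q = 1) (hcY : c ∈ Subgroup.normalizer (Y : Set X))
    (hY : ∀ y ∈ Y, c * y = y * c → y = 1) :
    ∀ {P : Subgroup X}, Group.IsSolvable P → Y ≤ Subgroup.normalizer (P : Set X) →
      c ∈ Subgroup.normalizer (P : Set X) → (Nat.card P).Coprime q →
      (Nat.card Y).Coprime (Nat.card P) →
      P ⊓ Subgroup.centralizer ({c} : Set X) ≤ Subgroup.centralizer (Y : Set X) →
      Y ≤ Subgroup.centralizer (P : Set X) := by
  intro P
  induction P using WellFoundedLT.induction with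
  | ind P IH =>
  intro hsol hYP hcP hq hcop hfix
  rcases eq_or_ne P ⊥ with rfl | hP
  · intro y _ u hu
    rw [SetLike.mem_coe, Subgroup.mem_bot] at hu
    simp [hu]
  haveI := hsol
  haveI : Nontrivial P := (Subgroup.nontrivial_iff_ne_bot P).mpr hP
  have hlt : ⁅P, P⁆ < P := by
    have h := Subgroup.map_lt_map_iff_of_injective P.subtype_injective |>.mpr
      (Group.IsSolvable.commutator_lt_top_of_nontrivial P)
    rwa [Subgroup.map_subtype_commutator, ← MonoidHom.range_eq_map, Subgroup.range_subtype] at h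
  have hcz : Subgroup.zpowers c ≤ Subgroup.normalizer (P : Set X) := Subgroup.zpowers_le.mpr hcP
  have hder := IH _ hlt (isSolvable_of_le hlt.le hsol) (le_normalizer_commutator hYP hYP)
    ((le_normalizer_commutator hcz hcz) (Subgroup.mem_zpowers c))
    (hq.coprime_dvd_left (Subgroup.card_dvd_of_le hlt.le))
    (hcop.coprime_dvd_right (Subgroup.card_dvd_of_le hlt.le))
    ((inf_le_inf_right _ hlt.le).trans hfix)
  have hcC : c ∈ Subgroup.normalizer ((Subgroup.centralizer (Y : Set X) : Subgroup X) : Set X) :=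
    (le_normalizer_centralizer (Subgroup.zpowers_le.mpr hcY)) (Subgroup.mem_zpowers c)
  have h := frobenius_span (D := P ⊓ Subgroup.centralizer (Y : Set X)) hsol hc hcY hY hYP hcP hq hcop
    inf_le_left (le_inf hlt.le (le_centralizer_symm hder))
    (le_normalizer_inf_of_le hYP (le_normalizer_centralizer Subgroup.le_normalizer))
    ((le_normalizer_inf_of_le hcz (le_normalizer_centralizer (Subgroup.zpowers_le.mpr hcY)))
      (Subgroup.mem_zpowers c))
    le_rfl (le_inf inf_le_left hfix)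
  exact le_centralizer_symm (h.trans inf_le_right)

/-- The setting: `A` elementary of order `q²`, acting on `H` coprimely with trivial fixed points and
abelian fixed points of the nontrivial elements. -/
structure Pl (A H : Subgroup X) (q : ℕ) : Prop where
  hq : q.Prime
  comm : ∀ a ∈ A, ∀ b ∈ A, a * b = b * a
  card : Nat.card A = q ^ 2
  exp : ∀ a ∈ A, a ^ q = 1
  norm : A ≤ Subgroup.normalizer (H : Set X)
  cop : (Nat.card H).Coprime q
  fix : ∀ x ∈ H, (∀ a ∈ A, a * x = x * a) → x = 1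
  ab : ∀ a ∈ A, a ≠ 1 → ∀ x ∈ H, ∀ y ∈ H, a * x = x * a → a * y = y * a → x * y = y * x

/-- The fixed points of `a` in `P`. -/
def ln (P : Subgroup X) (a : X) : Subgroup X := P ⊓ Subgroup.centralizer ({a} : Set X)

theorem mem_ln {P : Subgroup X} {a x : X} : x ∈ ln P a ↔ x ∈ P ∧ a * x = x * a := by
  rw [ln, Subgroup.mem_inf, mem_cent_singleton]

theorem ln_le (P : Subgroup X) (a : X) : ln P a ≤ P := inf_le_left

theorem ln_mono {P Q : Subgroup X} (h : P ≤ Q) (a : X) : ln P a ≤ ln Q a := inf_le_inf_right _ h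

namespace Pl

variable {A H : Subgroup X} {q : ℕ}

theorem mono (h : Pl A H q) {K : Subgroup X} (hK : K ≤ H)
    (hn : A ≤ Subgroup.normalizer (K : Set X)) : Pl A K q :=
  ⟨h.hq, h.comm, h.card, h.exp, hn, h.cop.coprime_dvd_left (Subgroup.card_dvd_of_le hK),
    fun x hx => h.fix x (hK hx), fun a ha h1 x hx y hy => h.ab a ha h1 x (hK hx) y (hK hy)⟩

theorem isMulCommutative (h : Pl A H q) : IsMulCommutative A :=
  ⟨⟨fun a b => Subtype.ext (h.comm a a.2 b b.2)⟩⟩

theorem coprimeA (h : Pl A H q) : (Nat.card A).Coprime (Nat.card H) := by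
  rw [h.card]
  exact (h.cop.pow_right 2).symm

theorem coprime_sub (h : Pl A H q) {K : Subgroup X} (hK : K ≤ H) :
    (Nat.card A).Coprime (Nat.card K) := h.coprimeA.coprime_dvd_right (Subgroup.card_dvd_of_le hK)

theorem q_coprime (h : Pl A H q) {K : Subgroup X} (hK : K ≤ H) : (Nat.card K).Coprime q :=
  h.cop.coprime_dvd_left (Subgroup.card_dvd_of_le hK)

theorem exists_indep [Finite X] (h : Pl A H q) {a : X} (ha : a ∈ A) :
    ∃ c ∈ A, c ∉ Subgroup.zpowers a := by
  by_contra hne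
  push Not at hne
  have h1 := Subgroup.card_le_of_le (show A ≤ Subgroup.zpowers a from hne)
  rw [h.card, Nat.card_zpowers] at h1
  have h2 := Nat.le_of_dvd h.hq.pos (orderOf_dvd_of_pow_eq_one (h.exp a ha))
  have h3 : q < q ^ 2 := lt_self_pow₀ h.hq.one_lt one_lt_two
  omega

theorem exists_ne_one [Finite X] (h : Pl A H q) : ∃ a ∈ A, a ≠ 1 := by
  obtain ⟨c, hc, hc1⟩ := h.exists_indep (one_mem A)
  exact ⟨c, hc, fun e => hc1 (by rw [e]; exact one_mem _)⟩

theorem ne_one_of_notMem {a c : X} (hc : c ∉ Subgroup.zpowers a) : c ≠ 1 :=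
  fun e => hc (e ▸ one_mem _)

theorem mem_zpowers_symm [Finite X] (h : Pl A H q) {a b : X} (ha : a ∈ A) (hb : b ∈ Subgroup.zpowers a)
    (hb1 : b ≠ 1) : a ∈ Subgroup.zpowers b := by
  haveI := Fact.mk h.hq
  have h1 : Nat.card (Subgroup.zpowers a) ∣ q := by
    rw [Nat.card_zpowers]; exact orderOf_dvd_of_pow_eq_one (h.exp a ha)
  have hle : Subgroup.zpowers b ≤ Subgroup.zpowers a := Subgroup.zpowers_le.mpr hb
  have h2 : Nat.card (Subgroup.zpowers b) = q := by
    rcases (Nat.dvd_prime h.hq).mp ((Subgroup.card_dvd_of_le hle).trans h1) with e | e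
    · exact absurd (Subgroup.zpowers_eq_bot.mp (Subgroup.card_eq_one.mp e)) hb1
    · exact e
  have h3 := Subgroup.eq_of_le_of_card_ge hle (by rw [h2]; exact Nat.le_of_dvd h.hq.pos h1)
  rw [h3]
  exact Subgroup.mem_zpowers a

theorem notMem_symm [Finite X] (h : Pl A H q) {a c : X} (hc : c ∈ A) (ha1 : a ≠ 1)
    (hca : c ∉ Subgroup.zpowers a) : a ∉ Subgroup.zpowers c :=
  fun e => hca (h.mem_zpowers_symm hc e ha1)

/-- Two independent elements of `A` fix only `1`. -/
theorem eq_one_of_two [Finite X] (h : Pl A H q) {a c : X} (ha : a ∈ A) (hc : c ∈ A) (ha1 : a ≠ 1)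
    (hca : c ∉ Subgroup.zpowers a) {x : X} (hx : x ∈ H) (hax : a * x = x * a)
    (hcx : c * x = x * c) : x = 1 := by
  set Z := A ⊓ Subgroup.centralizer ({x} : Set X) with hZ
  have haZ : a ∈ Z := ⟨ha, mem_cent_singleton.mpr hax.symm⟩
  have hcZ : c ∈ Z := ⟨hc, mem_cent_singleton.mpr hcx.symm⟩
  have h1 : Nat.card Z ∣ q ^ 2 := h.card ▸ Subgroup.card_dvd_of_le inf_le_left
  obtain ⟨j, hj, hjZ⟩ := (Nat.dvd_prime_pow h.hq).mp h1
  haveI := Fact.mk h.hq
  have h2 : Nat.card (Subgroup.zpowers a) = q := by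
    rw [Nat.card_zpowers]
    exact orderOf_eq_prime (h.exp a ha) ha1
  have h3 : Subgroup.zpowers a < Z := lt_of_le_of_ne (Subgroup.zpowers_le.mpr haZ)
    fun e => hca (e ▸ hcZ)
  have h4 : Nat.card Z = q ^ 2 := by
    by_contra hne
    have hj1 : j ≤ 1 := by
      by_contra hj1
      exact hne (by rw [hjZ, show j = 2 by omega])
    refine h3.ne (Subgroup.eq_of_le_of_card_ge h3.le ?_)
    rw [h2, hjZ]
    exact (Nat.pow_le_pow_right h.hq.pos hj1).trans (pow_one q).le
  have h5 : Z = A := Subgroup.eq_of_le_of_card_ge inf_le_left (by rw [h4, h.card])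
  exact h.fix x hx fun b hb => (mem_cent_singleton.mp (h5.ge hb).2).symm

theorem not_isCyclic [Finite X] (h : Pl A H q) : ¬ IsCyclic A :=
  not_isCyclic_of_exponent h.exp h.hq.pos (by rw [h.card]; exact lt_self_pow₀ h.hq.one_lt one_lt_two)

/-- `K` is generated by its fixed points. -/
theorem le_of_ln [Finite X] (h : Pl A H q) {K Y : Subgroup X} (hK : K ≤ H)
    (hKA : A ≤ Subgroup.normalizer (K : Set X)) (hY : ∀ a ∈ A, a ≠ 1 → ln K a ≤ Y) : K ≤ Y := by
  haveI := h.isMulCommutative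
  exact le_of_centralizer_le h.not_isCyclic hKA (h.coprime_sub hK) hY

theorem exists_ln_not_le [Finite X] (h : Pl A H q) {K Y : Subgroup X} (hK : K ≤ H)
    (hKA : A ≤ Subgroup.normalizer (K : Set X)) (hY : ¬ K ≤ Y) :
    ∃ a ∈ A, a ≠ 1 ∧ ¬ ln K a ≤ Y := by
  by_contra hne
  push Not at hne
  exact hY (h.le_of_ln hK hKA hne)

theorem norm_cent (h : Pl A H q) {a : X} (ha : a ∈ A) :
    A ≤ Subgroup.normalizer ((Subgroup.centralizer ({a} : Set X) : Subgroup X) : Set X) := by
  intro b hb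
  refine Subgroup.mem_normalizer_iff.mpr fun x => ?_
  rw [mem_cent_singleton, mem_cent_singleton]
  have hab := h.comm a ha b hb
  have e : a * (b * x * b⁻¹) = b * (a * x) * b⁻¹ := by
    rw [← mul_assoc, ← mul_assoc, hab]; group
  have e' : b * x * b⁻¹ * a = b * (x * a) * b⁻¹ := by
    rw [mul_assoc _ b⁻¹ a, show b⁻¹ * a = a * b⁻¹ by
      rw [eq_mul_inv_iff_mul_eq, mul_assoc, hab, inv_mul_cancel_left]]
    group
  rw [e, e', mul_left_inj, mul_right_inj]

theorem norm_ln (h : Pl A H q) {K : Subgroup X} (hKA : A ≤ Subgroup.normalizer (K : Set X))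
    {a : X} (ha : a ∈ A) : A ≤ Subgroup.normalizer (ln K a : Set X) :=
  le_normalizer_inf_of_le hKA (h.norm_cent ha)

theorem commute_ln (h : Pl A H q) {a : X} (ha : a ∈ A) (ha1 : a ≠ 1) {K L : Subgroup X}
    (hK : K ≤ H) (hL : L ≤ H) : ln K a ≤ Subgroup.centralizer (ln L a : Set X) := by
  intro x hx y hy
  exact h.ab a ha ha1 y (hL (mem_ln.mp hy).1) x (hK (mem_ln.mp hx).1) (mem_ln.mp hy).2 (mem_ln.mp hx).2

/-- The weight lemma: if `Y ≤ C(a)` centralizes `C_P(c)` for an independent `c`, it centralizes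
`P`. -/
theorem weight [Finite X] (h : Pl A H q) {a c : X} (ha : a ∈ A) (hc : c ∈ A) (ha1 : a ≠ 1)
    (hca : c ∉ Subgroup.zpowers a) {Y P : Subgroup X} (hYH : Y ≤ H) (hPH : P ≤ H)
    (hYA : A ≤ Subgroup.normalizer (Y : Set X)) (hYa : ∀ y ∈ Y, a * y = y * a)
    (hPA : A ≤ Subgroup.normalizer (P : Set X)) (hYP : Y ≤ Subgroup.normalizer (P : Set X))
    (hsol : Group.IsSolvable P) (hcop : (Nat.card Y).Coprime (Nat.card P))
    (hfix : ln P c ≤ Subgroup.centralizer (Y : Set X)) : Y ≤ Subgroup.centralizer (P : Set X) := by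
  haveI := Fact.mk h.hq
  exact frobenius_centralizes (h.exp c hc) (hYA hc)
    (fun y hy e => h.eq_one_of_two ha hc ha1 hca (hYH hy) (hYa y hy) e) hsol hYP (hPA hc)
    (h.q_coprime hPH) hcop hfix

/-- Contrapositive: a noncentralizing `Y ≤ C(a)` forces fixed points on every other line. -/
theorem ln_ne_bot [Finite X] (h : Pl A H q) {a c : X} (ha : a ∈ A) (hc : c ∈ A) (ha1 : a ≠ 1)
    (hca : c ∉ Subgroup.zpowers a) {Y P : Subgroup X} (hYH : Y ≤ H) (hPH : P ≤ H)
    (hYA : A ≤ Subgroup.normalizer (Y : Set X)) (hYa : ∀ y ∈ Y, a * y = y * a)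
    (hPA : A ≤ Subgroup.normalizer (P : Set X)) (hYP : Y ≤ Subgroup.normalizer (P : Set X))
    (hsol : Group.IsSolvable P) (hcop : (Nat.card Y).Coprime (Nat.card P))
    (hne : ¬ Y ≤ Subgroup.centralizer (P : Set X)) : ln P c ≠ ⊥ := fun e =>
  hne (h.weight ha hc ha1 hca hYH hPH hYA hYa hPA hYP hsol hcop (e ▸ bot_le))

end Pl

end CfsgLib.CoprimePlane
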