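import Cfsg.Agent.Lib.CoprimePlane.Basic
import Cfsg.Agent.Lib.Signalizer.Tools

/-!
An `r`-group `R` acting faithfully on an abelian group `V`, both invariant, is centralized by every
invariant group of fixed points which acts on both.
-/

set_option autoImplicit false
set_option linter.style.haveILetI false
set_option linter.unusedSectionVars false

open scoped commutatorElement

namespace CfsgLib.CoprimePlane

open CfsgLib.Coprime

variable {X : Type*} [Group X] {A H : Subgroup X} {q : ℕ}

/-- A commutator subgroup lies in `T` if it does line by line. -/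
theorem Pl.commutator_le_of_ln [Finite X] (h : Pl A H q) {V K T : Subgroup X} (hKH : K ≤ H)
    (hKA : A ≤ Subgroup.normalizer (K : Set X)) (hKT : K ≤ Subgroup.normalizer (T : Set X))
    (hd : ∀ d ∈ A, d ≠ 1 → ⁅V, ln K d⁆ ≤ T) : ⁅V, K⁆ ≤ T := by
  let S : Subgroup X :=
    { carrier := {s | s ∈ K ∧ ∀ v ∈ V, v * s * v⁻¹ * s⁻¹ ∈ T}
      one_mem' := ⟨one_mem _, fun v _ => by simp⟩
      mul_mem' := by
        rintro s t ⟨hs, hs'⟩ ⟨ht, ht'⟩
        refine ⟨mul_mem hs ht, fun v hv => ?_⟩
        rw [show v * (s * t) * v⁻¹ * (s * t)⁻¹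
          = (v * s * v⁻¹ * s⁻¹) * (s * (v * t * v⁻¹ * t⁻¹) * s⁻¹) by group]
        exact mul_mem (hs' v hv) (conj_mem (hKT hs) (ht' v hv))
      inv_mem' := by
        rintro s ⟨hs, hs'⟩
        refine ⟨inv_mem hs, fun v hv => ?_⟩
        rw [show v * s⁻¹ * v⁻¹ * s⁻¹⁻¹ = s⁻¹ * (v * s * v⁻¹ * s⁻¹)⁻¹ * s by group]
        exact conj_inv_mem (hKT hs) (inv_mem (hs' v hv)) }
  have hS : K ≤ S := h.le_of_ln hKH hKA fun d hdA hd1 s hs =>
    ⟨(mem_ln.mp hs).1, fun v hv => by
      have := hd d hdA hd1 (Subgroup.commutator_mem_commutator hv hs)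
      rwa [commutatorElement_def] at this⟩
  refine Subgroup.commutator_le.mpr fun v hv s hs => ?_
  rw [commutatorElement_def]
  exact (hS hs).2 v hv

theorem commutator_eq_bot_of_commute {H K : Subgroup X} (h : ∀ x ∈ H, ∀ y ∈ K, x * y = y * x) :
    ⁅H, K⁆ = ⊥ :=
  Subgroup.commutator_eq_bot_iff_le_centralizer.mpr fun x hx y hy => (h x hx y hy).symm

/-- An invariant `r`-group acting faithfully on an abelian invariant group, both normalized by the
invariant `Y ≤ C(b)`, is centralized by `Y`. -/
theorem Pl.le_centralizer_of_faithful [Finite X] (h : Pl A H q) {V R Y : Subgroup X}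
    {r : ℕ} [Fact r.Prime] (hR : IsPGroup r R) [IsMulCommutative V]
    (hVH : V ≤ H) (hRH : R ≤ H) (hYH : Y ≤ H) (hVA : A ≤ Subgroup.normalizer (V : Set X))
    (hRA : A ≤ Subgroup.normalizer (R : Set X)) (hYA : A ≤ Subgroup.normalizer (Y : Set X))
    (hRV : R ≤ Subgroup.normalizer (V : Set X)) (hYV : Y ≤ Subgroup.normalizer (V : Set X))
    (hYR : Y ≤ Subgroup.normalizer (R : Set X)) (hcop : (Nat.card R).Coprime (Nat.card V))
    (hfaith : R ⊓ Subgroup.centralizer (V : Set X) = ⊥) {b : X} (hb : b ∈ A) (hb1 : b ≠ 1)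
    (hYb : ∀ y ∈ Y, b * y = y * b) : Y ≤ Subgroup.centralizer (R : Set X) := by
  haveI := Fact.mk h.hq
  have hVsol : Group.IsSolvable V := isSolvable_of_isMulCommutative V
  have hVab : ∀ x ∈ V, ∀ y ∈ V, x * y = y * x := fun x hx y hy =>
    congrArg Subtype.val (mul_comm' (⟨x, hx⟩ : V) ⟨y, hy⟩)
  -- only `1` centralizes `C_V(R)` and `[V, R]`
  have hfaith' : ∀ u ∈ R, u ∈ Subgroup.centralizer ((⁅V, R⁆ : Subgroup X) : Set X) →
      (∀ v ∈ V ⊓ Subgroup.centralizer (R : Set X), v * u = u * v) → u = 1 := by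
    intro u hu h1 h2
    rw [← Subgroup.mem_bot, ← hfaith]
    refine ⟨hu, ?_⟩
    have hle : V ≤ Subgroup.centralizer ({u} : Set X) := by
      refine (centralizer_sup_commutator_eq hRV hcop).ge.trans (sup_le ?_ ?_)
      · exact fun v hv => mem_cent_singleton.mpr (h2 v hv).symm
      · exact fun w hw => mem_cent_singleton.mpr (h1 w hw).symm
    exact fun v hv => (mem_cent_singleton.mp (hle hv)).symm
  -- the central part `S` of `R`
  set S := R ⊓ Subgroup.centralizer (R : Set X) with hS
  have hSR : S ≤ R := inf_le_left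
  have hSA : A ≤ Subgroup.normalizer (S : Set X) :=
    le_normalizer_inf_of_le hRA (le_normalizer_centralizer hRA)
  have hkey : ∀ c ∈ A, c ≠ 1 → ∀ d ∈ A, d ≠ 1 → c ∉ Subgroup.zpowers d →
      ln R d ≤ Subgroup.centralizer ((⁅V, ln S c⁆ : Subgroup X) : Set X) := by
    intro c hc hc1 d hd hd1 hcd
    set K := ln S c with hK
    have hKR : K ≤ R := (ln_le S c).trans hSR
    have hKA : A ≤ Subgroup.normalizer (K : Set X) := h.norm_ln hSA hc
    have hWV : ⁅V, K⁆ ≤ V := commutator_le_left_of_le_normalizer (hKR.trans hRV)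
    have hRK : R ≤ Subgroup.normalizer (K : Set X) := fun x hx =>
      Subgroup.centralizer_le_normalizer _ (fun s hs => ((ln_le S c hs).2 x hx).symm)
    have hWR : R ≤ Subgroup.normalizer ((⁅V, K⁆ : Subgroup X) : Set X) :=
      le_normalizer_commutator hRV hRK
    refine h.weight hd hc hd1 hcd ((ln_le R d).trans hRH) (hWV.trans hVH) (h.norm_ln hRA hd)
      (fun y hy => (mem_ln.mp hy).2) (le_normalizer_commutator hVA hKA) ((ln_le R d).trans hWR)
      (isSolvable_of_le hWV hVsol)
      ((hcop.coprime_dvd_left (Subgroup.card_dvd_of_le (ln_le R d))).coprime_dvd_right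
        (Subgroup.card_dvd_of_le hWV)) ?_
    intro w hw
    have h0 : w ∈ (V ⊓ Subgroup.centralizer (K : Set X)) ⊓ ⁅V, K⁆ := by
      refine ⟨⟨hWV (mem_ln.mp hw).1, fun s hs => ?_⟩, (mem_ln.mp hw).1⟩
      exact h.ab c hc hc1 s ((hKR.trans hRH) hs) w (hVH (hWV (mem_ln.mp hw).1)) (mem_ln.mp hs).2
        (mem_ln.mp hw).2
    rw [centralizer_inf_commutator_eq_bot (hKR.trans hRV)
      (hcop.coprime_dvd_left (Subgroup.card_dvd_of_le hKR)), Subgroup.mem_bot] at h0
    subst h0
    exact one_mem _
  -- `R` is abelian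
  have hSnR : R ≤ Subgroup.normalizer (S : Set X) :=
    le_normalizer_inf_of_le Subgroup.le_normalizer (le_normalizer_centralizer Subgroup.le_normalizer)
  have hRab : ∀ x ∈ R, ∀ y ∈ R, x * y = y * x := by
    set C := Subgroup.centralizer ((⁅V, S⁆ : Subgroup X) : Set X) with hC
    have hRN : R ≤ Subgroup.normalizer (C : Set X) :=
      le_normalizer_centralizer (le_normalizer_commutator hRV hSnR)
    have hpair : ∀ c ∈ A, c ≠ 1 → ∀ d ∈ A, d ≠ 1 → ⁅ln R c, ln R d⁆ ≤ C := by
      intro c hc hc1 d hd hd1
      refine Subgroup.commutator_le.mpr fun x hx y hy => ?_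
      rw [commutatorElement_def]
      set w := x * y * x⁻¹ * y⁻¹ with hw
      have hwR : w ∈ R := mul_mem (mul_mem (mul_mem (ln_le _ _ hx) (ln_le _ _ hy))
        (inv_mem (ln_le _ _ hx))) (inv_mem (ln_le _ _ hy))
      have hle : ⁅V, S⁆ ≤ Subgroup.centralizer ({w} : Set X) := by
        refine h.commutator_le_of_ln (hSR.trans hRH) hSA (fun s hs => ?_) fun e he he1 => ?_
        · exact Subgroup.le_normalizer (mem_cent_singleton.mpr (hs.2 w hwR))
        · intro z hz
          refine mem_cent_singleton.mpr ?_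
          set W := ⁅V, ln S e⁆ with hW
          have hWR : R ≤ Subgroup.normalizer (W : Set X) :=
            le_normalizer_commutator hRV (fun g hg =>
              Subgroup.centralizer_le_normalizer _ (fun s hs => ((ln_le S e hs).2 g hg).symm))
          have hwC : w ∈ Subgroup.centralizer (W : Set X) := by
            by_cases hec : e ∈ Subgroup.zpowers c
            · by_cases hed : e ∈ Subgroup.zpowers d
              · have hxe : e * x = x * e := by
                  obtain ⟨i, rfl⟩ := Subgroup.mem_zpowers_iff.mp hec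
                  exact (show Commute c x from (mem_ln.mp hx).2).zpow_left i
                have hye : e * y = y * e := by
                  obtain ⟨i, rfl⟩ := Subgroup.mem_zpowers_iff.mp hed
                  exact (show Commute d y from (mem_ln.mp hy).2).zpow_left i
                have := h.ab e he he1 x (hRH (ln_le _ _ hx)) y (hRH (ln_le _ _ hy)) hxe hye
                rw [hw, this, mul_inv_cancel_right, mul_inv_cancel]
                exact one_mem _
              · have hyC := hkey e he he1 d hd hd1 hed hy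
                rw [hw]
                exact mul_mem (conj_mem (le_normalizer_centralizer hWR (ln_le _ _ hx)) hyC) (inv_mem hyC)
            · have hxC := hkey e he he1 c hc hc1 hec hx
              rw [hw, show x * y * x⁻¹ * y⁻¹ = x * (y * x⁻¹ * y⁻¹) by group]
              exact mul_mem hxC (conj_mem (le_normalizer_centralizer hWR (ln_le _ _ hy)) (inv_mem hxC))
          exact (hwC z hz).symm
      exact fun z hz => (mem_cent_singleton.mp (hle hz)).symm
    have hcomm : ⁅R, R⁆ ≤ C := by
      refine h.commutator_le_of_ln hRH hRA hRN fun d hd hd1 => ?_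
      rw [Subgroup.commutator_comm]
      refine h.commutator_le_of_ln hRH hRA hRN fun c hc hc1 => ?_
      exact hpair d hd hd1 c hc hc1
    intro x hx y hy
    by_contra hne
    have hne' : ⁅R, R⁆ ≠ ⊥ := fun e =>
      hne ((Subgroup.commutator_eq_bot_iff_le_centralizer.mp e hy x hx))
    have hJ := Signalizer.inf_centralizer_ne_bot hR (Subgroup.commutator_le_self R)
      (le_normalizer_commutator Subgroup.le_normalizer Subgroup.le_normalizer) hne'
    refine hJ ((Subgroup.eq_bot_iff_forall _).mpr fun j hj => ?_)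
    have hjR : j ∈ R := Subgroup.commutator_le_self R hj.1
    have hjS : j ∈ S := ⟨hjR, hj.2⟩
    have hjC : j ∈ C := hcomm hj.1
    rw [← Subgroup.mem_bot, ← hfaith]
    refine ⟨hjR, ?_⟩
    have hle : V ≤ Subgroup.centralizer ({j} : Set X) := by
      refine (centralizer_sup_commutator_eq (hSR.trans hRV)
        (hcop.coprime_dvd_left (Subgroup.card_dvd_of_le hSR))).ge.trans (sup_le ?_ ?_)
      · exact fun v hv => mem_cent_singleton.mpr (hv.2 j hjS)
      · exact fun w hw => mem_cent_singleton.mpr (hjC w hw).symm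
    exact fun v hv => (mem_cent_singleton.mp (hle hv)).symm
  haveI : IsMulCommutative R := ⟨⟨fun x y => Subtype.ext (hRab x x.2 y y.2)⟩⟩
  have hSeq : S = R := inf_eq_left.mpr fun x hx y hy => hRab y hy x hx
  rw [hSeq] at hkey
  -- the pieces `[V, C_R(c)]`
  have hWR : ∀ c, R ≤ Subgroup.normalizer ((⁅V, ln R c⁆ : Subgroup X) : Set X) := fun c =>
    le_normalizer_commutator hRV fun g hg =>
      Subgroup.centralizer_le_normalizer _ fun s hs => hRab s (ln_le R c hs) g hg
  have hWA : ∀ c ∈ A, A ≤ Subgroup.normalizer ((⁅V, ln R c⁆ : Subgroup X) : Set X) := fun c hc =>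
    le_normalizer_commutator hVA (h.norm_ln hRA hc)
  have hYW : ∀ c ∈ A, c ≠ 1 → Y ≤ Subgroup.normalizer ((⁅V, ln R c⁆ : Subgroup X) : Set X) := by
    intro c hc hc1 y hy
    by_cases hcb : c ∈ Subgroup.zpowers b
    · refine le_normalizer_commutator hYV (fun g hg => ?_) hy
      refine Subgroup.centralizer_le_normalizer _ fun s hs => ?_
      have hcg : c * g = g * c := by
        obtain ⟨i, rfl⟩ := Subgroup.mem_zpowers_iff.mp hcb
        exact (show Commute b g from hYb g hg).zpow_left i
      exact h.ab c hc hc1 s (hRH (ln_le _ _ hs)) g (hYH hg) (mem_ln.mp hs).2 hcg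
    set K := ln R c with hK
    set W := ⁅V, K⁆ with hW
    have hKR : K ≤ R := ln_le R c
    have hWV : W ≤ V := commutator_le_left_of_le_normalizer (hKR.trans hRV)
    have hKW : K ≤ Subgroup.normalizer (W : Set X) := hKR.trans (hWR c)
    have hbW : b ∈ Subgroup.normalizer (W : Set X) := hWA c hc hb
    have hbK : b ∈ Subgroup.normalizer (K : Set X) := h.norm_ln hRA hc hb
    let gens : Set X := {z | ∃ k ∈ K, ∃ w ∈ ln W b, z = k * w * k⁻¹}
    set U := Subgroup.closure gens with hU
    have hUW : U ≤ W := (Subgroup.closure_le _).mpr (by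
      rintro _ ⟨k, hk, w, hw, rfl⟩
      exact conj_mem (hKW hk) (ln_le _ _ hw))
    have hWU : W ≤ U := by
      refine frobenius_span (isSolvable_of_le hWV hVsol) (h.exp b hb) hbK
        (fun k hk e => h.eq_one_of_two hc hb hc1
          (h.notMem_symm hc hb1 hcb) (hRH (hKR hk)) (mem_ln.mp hk).2 e)
        hKW hbW (h.q_coprime (hWV.trans hVH))
        ((hcop.coprime_dvd_left (Subgroup.card_dvd_of_le hKR)).coprime_dvd_right
          (Subgroup.card_dvd_of_le hWV)) hUW ?_ ?_ ?_ ?_ ?_
      · rw [commutator_eq_bot_of_commute fun u hu v hv => hVab u (hWV hu) v (hWV hv)]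
        exact bot_le
      · intro g hg
        refine mem_normalizer_of_conj_le fun z hz => ?_
        induction hz using Subgroup.closure_induction with
        | mem z hz =>
          obtain ⟨k, hk, w, hw, rfl⟩ := hz
          exact Subgroup.subset_closure ⟨g * k, mul_mem hg hk, w, hw, by group⟩
        | one => simp
        | mul z z' _ _ h1 h2 => rw [show g * (z * z') * g⁻¹ = (g * z * g⁻¹) * (g * z' * g⁻¹) by group]; exact mul_mem h1 h2
        | inv z _ h1 => rw [show g * z⁻¹ * g⁻¹ = (g * z * g⁻¹)⁻¹ by group]; exact inv_mem h1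
      · refine mem_normalizer_of_conj_le fun z hz => ?_
        induction hz using Subgroup.closure_induction with
        | mem z hz =>
          obtain ⟨k, hk, w, hw, rfl⟩ := hz
          refine Subgroup.subset_closure ⟨b * k * b⁻¹, conj_mem hbK hk, w, hw, ?_⟩
          have e : b⁻¹ * w * b = w := by rw [mul_assoc, ← (mem_ln.mp hw).2, inv_mul_cancel_left]
          calc b * (k * w * k⁻¹) * b⁻¹ = b * k * w * k⁻¹ * b⁻¹ := by group
            _ = b * k * (b⁻¹ * w * b) * k⁻¹ * b⁻¹ := by rw [e]
            _ = b * k * b⁻¹ * w * (b * k * b⁻¹)⁻¹ := by group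
        | one => simp
        | mul z z' _ _ h1 h2 => rw [show b * (z * z') * b⁻¹ = (b * z * b⁻¹) * (b * z' * b⁻¹) by group]; exact mul_mem h1 h2
        | inv z _ h1 => rw [show b * z⁻¹ * b⁻¹ = (b * z * b⁻¹)⁻¹ by group]; exact inv_mem h1
      · intro v hv
        have h0 : v ∈ (V ⊓ Subgroup.centralizer (K : Set X)) ⊓ W := ⟨⟨hWV hv.1, hv.2⟩, hv.1⟩
        rw [hW, centralizer_inf_commutator_eq_bot (hKR.trans hRV)
          (hcop.coprime_dvd_left (Subgroup.card_dvd_of_le hKR)), Subgroup.mem_bot] at h0
        subst h0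
        exact one_mem _
      · exact fun v hv => Subgroup.subset_closure ⟨1, one_mem _, v, hv, by group⟩
    refine mem_normalizer_of_conj_le fun z hz => ?_
    have hz' := hWU hz
    clear hz
    induction hz' using Subgroup.closure_induction with
    | mem z hz =>
      obtain ⟨k, hk, w, hw, rfl⟩ := hz
      have hyw : y * w = w * y :=
        h.ab b hb hb1 y (hYH hy) w (hVH (hWV (ln_le _ _ hw))) (hYb y hy) (mem_ln.mp hw).2
      have e : y * w * y⁻¹ = w := by rw [hyw, mul_inv_cancel_right]
      have e2 : y * (k * w * k⁻¹) * y⁻¹ = (y * k * y⁻¹) * w * (y * k * y⁻¹)⁻¹ := by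
        calc y * (k * w * k⁻¹) * y⁻¹ = (y * k * y⁻¹) * (y * w * y⁻¹) * (y * k * y⁻¹)⁻¹ := by group
          _ = _ := by rw [e]
      rw [e2]
      exact conj_mem (hWR c (conj_mem (hYR hy) (hKR hk))) (ln_le _ _ hw)
    | one => simp
    | mul z z' h3 h4 h1 h2 =>
      rw [show y * (z * z') * y⁻¹ = (y * z * y⁻¹) * (y * z' * y⁻¹) by group]
      exact mul_mem h1 h2
    | inv z h3 h1 =>
      rw [show y * z⁻¹ * y⁻¹ = (y * z * y⁻¹)⁻¹ by group]
      exact inv_mem h1
  have hfix : ∀ c ∈ A, c ≠ 1 → Y ≤ Subgroup.normalizer (ln R c : Set X) := by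
    intro c hc hc1 y hy
    refine mem_normalizer_of_conj_le fun z hz => mem_ln.mpr ⟨conj_mem (hYR hy) (ln_le _ _ hz), ?_⟩
    set z' := y * z * y⁻¹ with hz'
    have hz'R : z' ∈ R := conj_mem (hYR hy) (ln_le _ _ hz)
    have hcR : c ∈ Subgroup.normalizer (R : Set X) := hRA hc
    -- `z'⁻¹ c z' c⁻¹` centralizes every piece
    have hu : z'⁻¹ * (c * z' * c⁻¹) = 1 := by
      have hu1 : z'⁻¹ * (c * z' * c⁻¹) ∈ R := mul_mem (inv_mem hz'R) (conj_mem hcR hz'R)
      refine hfaith' _ hu1 ?_ ?_
      · intro w hw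
        have hle : ⁅V, R⁆ ≤ Subgroup.centralizer ({z'⁻¹ * (c * z' * c⁻¹)} : Set X) := by
          refine h.commutator_le_of_ln hRH hRA (fun s hs => Subgroup.le_normalizer
            (mem_cent_singleton.mpr (hRab _ hu1 s hs))) fun e he he1 => ?_
          intro w' hw'
          refine mem_cent_singleton.mpr ?_
          set W := ⁅V, ln R e⁆ with hW
          suffices hu2 : z'⁻¹ * (c * z' * c⁻¹) ∈ Subgroup.centralizer (W : Set X) from (hu2 w' hw').symm
          by_cases hec : e ∈ Subgroup.zpowers c
          · let T : Subgroup X :=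
              { carrier := {s | s ∈ R ∧ s⁻¹ * (c * s * c⁻¹) ∈ Subgroup.centralizer (W : Set X)}
                one_mem' := ⟨one_mem _, by simp⟩
                mul_mem' := by
                  rintro s t ⟨hs, hs'⟩ ⟨ht, ht'⟩
                  refine ⟨mul_mem hs ht, ?_⟩
                  have e1 : (s * t)⁻¹ * (c * (s * t) * c⁻¹)
                      = (s⁻¹ * (c * s * c⁻¹)) * (t⁻¹ * (c * t * c⁻¹)) := by
                    have := hRab _ (inv_mem ht) _ (mul_mem (inv_mem hs) (conj_mem hcR hs))
                    calc (s * t)⁻¹ * (c * (s * t) * c⁻¹)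
                        = t⁻¹ * (s⁻¹ * (c * s * c⁻¹)) * (c * t * c⁻¹) := by group
                      _ = (s⁻¹ * (c * s * c⁻¹)) * t⁻¹ * (c * t * c⁻¹) := by rw [this]
                      _ = _ := by group
                  rw [e1]
                  exact mul_mem hs' ht'
                inv_mem' := by
                  rintro s ⟨hs, hs'⟩
                  refine ⟨inv_mem hs, ?_⟩
                  have e1 : s⁻¹⁻¹ * (c * s⁻¹ * c⁻¹) = (s⁻¹ * (c * s * c⁻¹))⁻¹ := by
                    have := hRab _ hs _ (conj_mem hcR (inv_mem hs))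
                    calc s⁻¹⁻¹ * (c * s⁻¹ * c⁻¹) = s * (c * s⁻¹ * c⁻¹) := by rw [inv_inv]
                      _ = (c * s⁻¹ * c⁻¹) * s := this
                      _ = _ := by group
                  rw [e1]
                  exact inv_mem hs' }
            have hT : R ≤ T := h.le_of_ln hRH hRA fun d hd hd1 s hs => ⟨ln_le _ _ hs, by
              by_cases hcd : c ∈ Subgroup.zpowers d
              · have hcs : c * s = s * c := by
                  obtain ⟨i, rfl⟩ := Subgroup.mem_zpowers_iff.mp hcd
                  exact (show Commute d s from (mem_ln.mp hs).2).zpow_left i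
                rw [hcs, mul_inv_cancel_right, inv_mul_cancel]
                exact one_mem _
              · refine hkey e he he1 d hd hd1 (fun hed => hcd ?_)
                  (mul_mem (inv_mem hs) (conj_mem (h.norm_ln hRA hd hc) hs))
                exact Subgroup.zpowers_le.mpr hed (h.mem_zpowers_symm hc hec he1)⟩
            exact (hT hz'R).2
          · have hzC := hkey e he he1 c hc hc1 hec hz
            have hYC : y ∈ Subgroup.normalizer
                ((Subgroup.centralizer (W : Set X) : Subgroup X) : Set X) :=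
              le_normalizer_centralizer (hYW e he he1) hy
            have hcC : c ∈ Subgroup.normalizer
                ((Subgroup.centralizer (W : Set X) : Subgroup X) : Set X) :=
              le_normalizer_centralizer (hWA e he) hc
            exact mul_mem (inv_mem (conj_mem hYC hzC)) (conj_mem hcC (conj_mem hYC hzC))
        exact (mem_cent_singleton.mp (hle hw)).symm
      · intro v hv
        exact (hv.2 _ hu1).symm
    calc c * z' = z' * (z'⁻¹ * (c * z' * c⁻¹)) * c := by group
      _ = z' * c := by rw [hu, mul_one]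
  refine le_centralizer_symm (h.le_of_ln hRH hRA fun c hc hc1 => le_centralizer_symm ?_)
  intro y hy z hz
  by_cases hcb : c ∈ Subgroup.zpowers b
  · have hcy : c * y = y * c := by
      obtain ⟨i, rfl⟩ := Subgroup.mem_zpowers_iff.mp hcb
      exact (show Commute b y from hYb y hy).zpow_left i
    exact h.ab c hc hc1 z (hRH (ln_le _ _ hz)) y (hYH hy) (mem_ln.mp hz).2 hcy
  · exact fpf_centralizes (hYA hc) (hfix c hc hc1) (fun k hk => (mem_ln.mp hk).2)
      (fun u hu e => h.eq_one_of_two hb hc hb1 hcb (hYH hu) (hYb u hu) e) hy z hz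

end CfsgLib.CoprimePlane
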