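import Cfsg.Agent.Lib.CoprimePlane.Structure
import Cfsg.Agent.Lib.Hall.Invariant
import Cfsg.Agent.Lib.Transfer.Basic
import Cfsg.Agent.S0144
import Cfsg.Agent.S3073

/-!
A minimal nonsolvable configuration: invariant Sylow subgroups, maximal invariant subgroups of order
`p ^ i * r ^ j`, and the lines met by a Sylow subgroup.
-/

set_option autoImplicit false
set_option linter.style.haveILetI false
set_option linter.unusedSectionVars false

open scoped commutatorElement Pointwise

namespace CfsgLib.CoprimePlane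

open CfsgLib.Coprime

universe u

variable {X : Type u} [Group X]

/-- A minimal nonsolvable counterexample. -/
structure Hyp (A G : Subgroup X) (q : ℕ) : Prop where
  pl : Pl A G q
  ns : ¬ Group.IsSolvable G
  proper : ∀ K : Subgroup X, K ≤ G → A ≤ Subgroup.normalizer (K : Set X) → K ≠ G →
    Group.IsSolvable K
  simple : ∀ N : Subgroup X, N ≤ G → A ≤ Subgroup.normalizer (N : Set X) →
    G ≤ Subgroup.normalizer (N : Set X) → N = ⊥ ∨ N = G

/-- The invariant Sylow `p`-subgroup. -/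
def syl (A G : Subgroup X) (p : ℕ) : Subgroup X :=
  ⨆ U : {U : Subgroup X // U ≤ G ∧ IsPGroup p U ∧ A ≤ Subgroup.normalizer (U : Set X)},
    (U : Subgroup X)

/-- An invariant subgroup of `G` of order `p ^ i * r ^ j`. -/
structure Pair (A G : Subgroup X) (p r : ℕ) (M : Subgroup X) : Prop where
  le : M ≤ G
  inv : A ≤ Subgroup.normalizer (M : Set X)
  two : IsTwo p r M

theorem Pair.symm {A G M : Subgroup X} {p r : ℕ} (h : Pair A G p r M) : Pair A G r p M :=
  ⟨h.le, h.inv, h.two.symm⟩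

/-- A maximal such subgroup. -/
def MaxPair (A G : Subgroup X) (p r : ℕ) (M : Subgroup X) : Prop :=
  Pair A G p r M ∧ ∀ N, Pair A G p r N → M ≤ N → N = M

theorem MaxPair.symm {A G M : Subgroup X} {p r : ℕ} (h : MaxPair A G p r M) : MaxPair A G r p M :=
  ⟨h.1.symm, fun N hN => h.2 N hN.symm⟩

theorem le_normalizer_map_char [Finite X] {A W : Subgroup X}
    (hA : A ≤ Subgroup.normalizer (W : Set X)) (C : Subgroup W) [hC : C.Characteristic] :
    A ≤ Subgroup.normalizer ((C.map W.subtype : Subgroup X) : Set X) := by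
  intro a ha
  refine mem_normalizer_of_conj_le ?_
  rintro _ ⟨x, hx, rfl⟩
  exact ⟨W.normalizerMonoidHom ⟨a, hA ha⟩ x,
    (Subgroup.characteristic_iff_map_le.mp hC) _ (Subgroup.mem_map_of_mem _ hx), rfl⟩

theorem normalizer_eq_self_imp [Finite X] {p : ℕ} [Fact p.Prime] {P Q : Subgroup X} (hP : IsPGroup p P)
    (hQP : Q ≤ P) (h : P ⊓ Subgroup.normalizer (Q : Set X) ≤ Q) : P ≤ Q := by
  haveI := hP.isNilpotent
  by_contra hne
  have hlt : Q.subgroupOf P < ⊤ := lt_top_iff_ne_top.mpr fun e =>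
    hne (Subgroup.subgroupOf_eq_top.mp e)
  obtain ⟨x, hx, hxQ⟩ := SetLike.exists_of_lt (Group.normalizerCondition_of_isNilpotent _ hlt)
  refine hxQ (h ⟨x.2, mem_normalizer_of_conj_le fun y hy => ?_⟩)
  have h1 := conj_mem hx (show (⟨y, hQP hy⟩ : P) ∈ Q.subgroupOf P from hy)
  simpa [Subgroup.mem_subgroupOf] using h1

/-- A coprime element centralizing a self-centralizing subgroup of a `p`-group centralizes it. -/
theorem centralizes_of_selfCentralizing [Finite X] {p : ℕ} [Fact p.Prime] {P Q : Subgroup X} {x : X}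
    (hP : IsPGroup p P) (hQP : Q ≤ P) (hxP : x ∈ Subgroup.normalizer (P : Set X))
    (hxQ : x ∈ Subgroup.centralizer (Q : Set X)) (hC : P ⊓ Subgroup.centralizer (Q : Set X) ≤ Q)
    (hcop : (orderOf x).Coprime p) : x ∈ Subgroup.centralizer (P : Set X) := by
  have hQx : Q ≤ Subgroup.centralizer ((Subgroup.zpowers x : Subgroup X) : Set X) := fun y hy =>
    mem_centralizer_singleton_zpowers (mem_cent_singleton.mpr (hxQ y hy).symm)
  have h := pxq (P := Q) (Q := Subgroup.zpowers x) (hP.to_le hQP) (by rwa [Nat.card_zpowers]) hQx hP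
    (hQP.trans Subgroup.le_normalizer) (Subgroup.zpowers_le.mpr hxP) (hC.trans hQx)
  exact h (Subgroup.mem_zpowers x)

theorem inf_centralizer_self_ne_bot [Finite X] {p : ℕ} [Fact p.Prime] {P : Subgroup X}
    (hP : IsPGroup p P) (h : P ≠ ⊥) : P ⊓ Subgroup.centralizer (P : Set X) ≠ ⊥ :=
  Signalizer.inf_centralizer_ne_bot hP le_rfl Subgroup.le_normalizer h

namespace Hyp

variable [Finite X] {A G : Subgroup X} {q : ℕ}

theorem solA (h : Hyp A G q) : Group.IsSolvable A :=
  haveI := h.pl.isMulCommutative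
  isSolvable_of_isMulCommutative A

theorem syl_spec (h : Hyp A G q) (p : ℕ) [Fact p.Prime] : InvSyl A p G (syl A G p) := by
  obtain ⟨Q, hQ⟩ := h.pl.exists_invSyl le_rfl h.pl.norm p
  suffices syl A G p = Q by rwa [this]
  exact le_antisymm
    (iSup_le fun U => h.pl.invSyl_le le_rfl h.pl.norm hQ U.2.1 U.2.2.1 U.2.2.2)
    (le_iSup (fun U : {U : Subgroup X // U ≤ G ∧ IsPGroup p U ∧
      A ≤ Subgroup.normalizer (U : Set X)} => (U : Subgroup X)) ⟨Q, hQ.1, hQ.2.2.1, hQ.2.1⟩)

theorem syl_le (h : Hyp A G q) (p : ℕ) [Fact p.Prime] : syl A G p ≤ G := (h.syl_spec p).1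

theorem syl_inv (h : Hyp A G q) (p : ℕ) [Fact p.Prime] :
    A ≤ Subgroup.normalizer (syl A G p : Set X) := (h.syl_spec p).2.1

theorem syl_isPGroup (h : Hyp A G q) (p : ℕ) [Fact p.Prime] : IsPGroup p (syl A G p) :=
  (h.syl_spec p).2.2.1

theorem le_syl (h : Hyp A G q) {p : ℕ} [Fact p.Prime] {U : Subgroup X} (hU : U ≤ G)
    (hp : IsPGroup p U) (hA : A ≤ Subgroup.normalizer (U : Set X)) : U ≤ syl A G p :=
  h.pl.invSyl_le le_rfl h.pl.norm (h.syl_spec p) hU hp hA

theorem sol_syl (h : Hyp A G q) (p : ℕ) [Fact p.Prime] : Group.IsSolvable (syl A G p) := by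
  haveI := (h.syl_isPGroup p).isNilpotent
  infer_instance

theorem coprime_syl (h : Hyp A G q) {p r : ℕ} [Fact p.Prime] [Fact r.Prime] (hpr : p ≠ r) :
    (Nat.card (syl A G p)).Coprime (Nat.card (syl A G r)) :=
  isPGroup_coprime hpr (h.syl_isPGroup p) (h.syl_isPGroup r)

theorem part (h : Hyp A G q) {K : Subgroup X} (hK : K ≤ G)
    (hKA : A ≤ Subgroup.normalizer (K : Set X)) (p : ℕ) [Fact p.Prime] :
    InvSyl A p K (K ⊓ syl A G p) := by
  obtain ⟨Q, hQ⟩ := h.pl.exists_invSyl hK hKA p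
  have hle : Q ≤ K ⊓ syl A G p := le_inf hQ.1 (h.le_syl (hQ.1.trans hK) hQ.2.2.1 hQ.2.1)
  exact ⟨inf_le_left, le_normalizer_inf_of_le hKA (h.syl_inv p),
    (h.syl_isPGroup p).to_le inf_le_right,
    fun hd => hQ.2.2.2 (hd.trans (Subgroup.relIndex_dvd_of_le_left K hle))⟩

theorem bot_ne (h : Hyp A G q) : G ≠ ⊥ := fun e => h.ns (e ▸ inferInstance)

theorem pair_ne (h : Hyp A G q) {p r : ℕ} [hp : Fact p.Prime] [hr : Fact r.Prime] {M : Subgroup X}
    (hM : Pair A G p r M) : M ≠ G := by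
  rintro rfl
  refine h.ns (Cfsg.Agent.S0144.aux p r hp.out hr.out _ _ rfl
    ⟨(Nat.card M).factorization p, (Nat.card M).factorization r, ?_⟩)
  rw [← Nat.factorization_le_iff_dvd Nat.card_pos.ne'
    (mul_ne_zero (pow_ne_zero _ hp.out.ne_zero) (pow_ne_zero _ hr.out.ne_zero))]
  intro s
  rcases Nat.eq_zero_or_pos ((Nat.card M).factorization s) with e | e
  · rw [e]; exact Nat.zero_le _
  have hs : s.Prime := Nat.prime_of_mem_primeFactors (by
    rw [← Nat.support_factorization, Finsupp.mem_support_iff]; exact e.ne')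
  rw [Nat.factorization_mul (pow_ne_zero _ hp.out.ne_zero) (pow_ne_zero _ hr.out.ne_zero),
    Nat.factorization_pow, Nat.factorization_pow, Finsupp.add_apply, Finsupp.smul_apply,
    Finsupp.smul_apply, smul_eq_mul, smul_eq_mul]
  rcases hM.two s hs (Nat.dvd_of_factorization_pos e.ne') with rfl | rfl
  · rw [hs.factorization_self, mul_one]; omega
  · rw [hs.factorization_self, mul_one]; omega

theorem pair_sol (h : Hyp A G q) {p r : ℕ} [Fact p.Prime] [Fact r.Prime] {M : Subgroup X}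
    (hM : Pair A G p r M) : Group.IsSolvable M := h.proper M hM.le hM.inv (h.pair_ne hM)

theorem exists_pair (h : Hyp A G q) {p r : ℕ} [hp : Fact p.Prime] [hr : Fact r.Prime]
    {K : Subgroup X} (hK : K ≤ G) (hKA : A ≤ Subgroup.normalizer (K : Set X)) (hne : K ≠ G) :
    ∃ M, Pair A G p r M ∧ M ≤ K ∧ K ⊓ syl A G p ≤ M ∧ K ⊓ syl A G r ≤ M := by
  obtain ⟨m, n, hmn, hcop, hm, hn⟩ :=
    Hall.exists_pi_split ({p, r} : Set ℕ) (k := Nat.card K) Nat.card_pos.ne'
  obtain ⟨M, hMK, hMc, hMA⟩ := Hall.exists_invariant_hall hKA (h.pl.coprime_sub hK)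
    (h.proper K hK hKA hne) hmn hcop
  have hpair : Pair A G p r M := ⟨hMK.trans hK, hMA, fun s hs hd => hm s hs (hMc ▸ hd)⟩
  refine ⟨M, hpair, hMK, ?_, ?_⟩
  all_goals
    have key : ∀ t : ℕ, [Fact t.Prime] → t ∈ ({p, r} : Set ℕ) → K ⊓ syl A G t ≤ M := by
      intro t _ ht
      have h1 := card_invSyl (h.part hK hKA t)
      have h2 := card_invSyl (h.part hpair.le hMA t)
      have h3 : (Nat.card K).factorization t = (Nat.card M).factorization t := by
        have hn0 : n ≠ 0 := fun e => Nat.card_pos.ne' (hmn.trans (by rw [e, mul_zero]))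
        rw [hmn, hMc, Nat.factorization_mul (fun e => Nat.card_pos.ne' (hmn.trans (by rw [e, zero_mul])))
          hn0, Finsupp.add_apply, Nat.factorization_eq_zero_of_not_dvd fun hd => hn t Fact.out hd ht,
          add_zero]
      have h4 := Subgroup.eq_of_le_of_card_ge (inf_le_inf_right (syl A G t) hMK) (by rw [h1, h2, h3])
      exact h4 ▸ inf_le_left
  · exact key p (Or.inl rfl)
  · exact key r (Or.inr rfl)

theorem exists_max (_h : Hyp A G q) {p r : ℕ} {M : Subgroup X} (hM : Pair A G p r M) :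
    ∃ N, MaxPair A G p r N ∧ M ≤ N := by
  obtain ⟨N, hMN, hN⟩ := Finite.exists_le_maximal (p := Pair A G p r) (a := M) hM
  exact ⟨N, ⟨hN.prop, fun L hL hNL => le_antisymm (hN.le_of_ge hL hNL) hNL⟩, hMN⟩

theorem exists_max_of_sol (h : Hyp A G q) {p r : ℕ} [Fact p.Prime] [Fact r.Prime]
    {K : Subgroup X} (hK : K ≤ G) (hKA : A ≤ Subgroup.normalizer (K : Set X)) (hne : K ≠ G) :
    ∃ M, MaxPair A G p r M ∧ K ⊓ syl A G p ≤ M ∧ K ⊓ syl A G r ≤ M := by
  obtain ⟨M, hM, -, h1, h2⟩ := h.exists_pair (p := p) (r := r) hK hKA hne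
  obtain ⟨N, hN, hMN⟩ := h.exists_max hM
  exact ⟨N, hN, h1.trans hMN, h2.trans hMN⟩

theorem pair_sup (h : Hyp A G q) {p r : ℕ} [Fact p.Prime] [Fact r.Prime] {M : Subgroup X}
    (hM : Pair A G p r M) : (M ⊓ syl A G p) ⊔ (M ⊓ syl A G r) = M :=
  sup_invSyl_eq (h.part hM.le hM.inv p) (h.part hM.le hM.inv r) hM.two

theorem eq_bot_of_central (h : Hyp A G q) {W : Subgroup X} (hW : W ≤ G)
    (hWA : A ≤ Subgroup.normalizer (W : Set X)) (hC : G ≤ Subgroup.centralizer (W : Set X)) :
    W = ⊥ := by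
  refine (h.simple W hW hWA (hC.trans (Subgroup.centralizer_le_normalizer _))).resolve_right ?_
  rintro rfl
  exact h.ns (Group.isSolvable_of_comm fun a b => Subtype.ext (hC b.2 a a.2))

theorem cent_ne (h : Hyp A G q) {W : Subgroup X} (hW : W ≤ G)
    (hWA : A ≤ Subgroup.normalizer (W : Set X)) (hne : W ≠ ⊥) :
    G ⊓ Subgroup.centralizer (W : Set X) ≠ G := fun e =>
  hne (h.eq_bot_of_central hW hWA (inf_eq_left.mp e))

theorem norm_ne (h : Hyp A G q) {W : Subgroup X} (hW : W ≤ G)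
    (hWA : A ≤ Subgroup.normalizer (W : Set X)) (hne : W ≠ ⊥) (hWG : W ≠ G) :
    G ⊓ Subgroup.normalizer (W : Set X) ≠ G := fun e =>
  (h.simple W hW hWA (inf_eq_left.mp e)).elim hne hWG

theorem norm_inf (h : Hyp A G q) {W : Subgroup X} (hWA : A ≤ Subgroup.normalizer (W : Set X)) :
    A ≤ Subgroup.normalizer ((G ⊓ Subgroup.normalizer (W : Set X) : Subgroup X) : Set X) :=
  le_normalizer_inf_of_le h.pl.norm (hWA.trans Subgroup.le_normalizer)

theorem cent_inf (h : Hyp A G q) {W : Subgroup X} (hWA : A ≤ Subgroup.normalizer (W : Set X)) :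
    A ≤ Subgroup.normalizer ((G ⊓ Subgroup.centralizer (W : Set X) : Subgroup X) : Set X) :=
  le_normalizer_inf_of_le h.pl.norm (le_normalizer_centralizer hWA)

/-- The normalizer of a normal subgroup of a maximal pair lies in it. -/
theorem normal_le (h : Hyp A G q) {p r : ℕ} [Fact p.Prime] [Fact r.Prime] {M W : Subgroup X}
    (hM : MaxPair A G p r M) (hWM : W ≤ M) (hWA : A ≤ Subgroup.normalizer (W : Set X))
    (hne : W ≠ ⊥) (hn : M ≤ Subgroup.normalizer (W : Set X)) :
    syl A G p ⊓ Subgroup.normalizer (W : Set X) ≤ M ∧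
      syl A G r ⊓ Subgroup.normalizer (W : Set X) ≤ M := by
  have hWG : W ≠ G := fun e => h.pair_ne hM.1 (le_antisymm hM.1.le (e ▸ hWM))
  set K := G ⊓ Subgroup.normalizer (W : Set X)
  obtain ⟨N, hN, h1, h2⟩ := h.exists_max_of_sol (p := p) (r := r) (K := K) inf_le_left
    (h.norm_inf hWA) (h.norm_ne (hWM.trans hM.1.le) hWA hne hWG)
  have hMN : M ≤ N := by
    rw [← h.pair_sup hM.1]
    refine sup_le ?_ ?_
    · exact (le_inf (inf_le_left.trans (le_inf hM.1.le hn)) inf_le_right).trans h1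
    · exact (le_inf (inf_le_left.trans (le_inf hM.1.le hn)) inf_le_right).trans h2
  have hNM := hM.2 N hN.1 hMN
  subst hNM
  exact ⟨(le_inf (le_inf (inf_le_left.trans (h.syl_le p)) inf_le_right) inf_le_left).trans h1,
    (le_inf (le_inf (inf_le_left.trans (h.syl_le r)) inf_le_right) inf_le_left).trans h2⟩

theorem syl_ne_bot (h : Hyp A G q) {p : ℕ} [hp : Fact p.Prime] (hd : p ∣ Nat.card G) :
    syl A G p ≠ ⊥ := by
  intro e
  refine (h.syl_spec p).2.2.2 ?_
  rwa [e, Subgroup.relIndex_bot_left]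

/-- The invariant Sylow subgroup as a Sylow subgroup of `G`. -/
theorem exists_sylow (h : Hyp A G q) (p : ℕ) [Fact p.Prime] :
    ∃ P : Sylow p G, (P : Subgroup G) = (syl A G p).subgroupOf G :=
  ⟨((h.syl_isPGroup p).comap_of_injective G.subtype G.subtype_injective).toSylow
    (h.syl_spec p).2.2.2, rfl⟩

theorem not_complement (h : Hyp A G q) {p : ℕ} [hp : Fact p.Prime] (hd : p ∣ Nat.card G) :
    ¬ Cfsg.HasNormalPComplement p G := by
  rintro ⟨P, N, hN, hc⟩
  haveI := hN
  have h1 := Transfer.coprime_card_of_isComplement' hc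
  have h2 := Transfer.isPGroup_quotient_of_isComplement' hc
  haveI : N.Characteristic := Subgroup.characteristic_iff_map_le.mpr fun φ => by
    rintro _ ⟨x, hx, rfl⟩
    rw [Transfer.mem_iff_coprime_orderOf h1 h2]
    change (orderOf (φ x)).Coprime p
    rw [MulEquiv.orderOf_eq]
    exact Transfer.coprime_orderOf_of_mem h1 hx
  have hn : G ≤ Subgroup.normalizer ((N.map G.subtype : Subgroup X) : Set X) := fun g hg =>
    mem_normalizer_of_conj_le (by
      rintro _ ⟨x, hx, rfl⟩
      exact ⟨⟨g, hg⟩ * x * ⟨g, hg⟩⁻¹, hN.conj_mem x hx _, by simp⟩)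
  rcases h.simple _ (Subgroup.map_subtype_le N) (le_normalizer_map_char h.pl.norm N) hn with e | e
  · rw [Subgroup.map_eq_bot_iff_of_injective _ G.subtype_injective] at e
    subst e
    have h3 : IsPGroup p G := h2.of_equiv QuotientGroup.quotientBot
    haveI := h3.isNilpotent
    exact h.ns inferInstance
  · have h3 : Nat.card N = Nat.card G := by
      rw [← Subgroup.card_map_of_injective G.subtype_injective, e]
    exact hp.out.not_dvd_one (h1 ▸ Nat.dvd_gcd (h3.symm ▸ hd) dvd_rfl)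

/-- A Sylow subgroup is not fixed by one element of `A`. -/
theorem not_single_line (h : Hyp A G q) {p : ℕ} [hp : Fact p.Prime] (hd : p ∣ Nat.card G)
    {a : X} (ha : a ∈ A) (ha1 : a ≠ 1) : ∃ c ∈ A, c ≠ 1 ∧ c ∉ Subgroup.zpowers a ∧
      ln (syl A G p) c ≠ ⊥ := by
  by_contra hne
  push Not at hne
  set P := syl A G p with hP
  have hPa : ∀ x ∈ P, a * x = x * a := by
    have hle : P ≤ Subgroup.centralizer ({a} : Set X) := by
      refine h.pl.le_of_ln (h.syl_le p) (h.syl_inv p) fun c hc hc1 x hx => ?_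
      by_cases hca : c ∈ Subgroup.zpowers a
      · have hac := h.pl.mem_zpowers_symm ha hca hc1
        obtain ⟨i, hi⟩ := Subgroup.mem_zpowers_iff.mp hac
        rw [← hi]
        exact mem_cent_singleton.mpr ((show Commute c x from (mem_ln.mp hx).2).zpow_left i).eq
      · have := hne c hc hc1 hca
        rw [this, Subgroup.mem_bot] at hx
        subst hx
        exact one_mem _
    exact fun x hx => mem_cent_singleton.mp (hle hx)
  set K := G ⊓ Subgroup.normalizer (P : Set X) with hK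
  have hKA := h.norm_inf (h.syl_inv p)
  have hKP : K ≤ Subgroup.centralizer (P : Set X) := by
    refine h.pl.le_of_ln inf_le_left hKA fun c hc hc1 => ?_
    by_cases hca : c ∈ Subgroup.zpowers a
    · intro x hx y hy
      have hax : a * x = x * a := by
        obtain ⟨i, hi⟩ := Subgroup.mem_zpowers_iff.mp (h.pl.mem_zpowers_symm ha hca hc1)
        rw [← hi]
        exact ((show Commute c x from (mem_ln.mp hx).2).zpow_left i).eq
      exact h.pl.ab a ha ha1 y (h.syl_le p hy) x (inf_le_left (b := Subgroup.normalizer (P : Set X))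
        (mem_ln.mp hx).1) (hPa y hy) hax
    · exact fpf_centralizes (h.pl.norm_ln hKA hc ha) ((ln_le K c).trans inf_le_right) hPa
        fun y hy e => h.pl.eq_one_of_two hc ha hc1 (h.pl.notMem_symm hc ha1 hca)
          (mem_ln.mp hy).1.1 (mem_ln.mp hy).2 e
  obtain ⟨S, hS⟩ := h.exists_sylow p
  refine h.not_complement hd (Transfer.hasNormalPComplement_of_normalizer_le_centralizer S ?_)
  intro g hg x hx
  have hxP : (x : X) ∈ P := by
    have hxS : x ∈ (S : Subgroup G) := hx
    rw [hS] at hxS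
    exact hxS
  have hgK : (g : X) ∈ K := ⟨g.2, mem_normalizer_of_conj_le fun y hy => by
    have h1 : (⟨y, h.syl_le p hy⟩ : G) ∈ (S : Subgroup G) := by rw [hS]; exact hy
    have h2 := conj_mem hg h1
    rw [hS] at h2
    simpa [Subgroup.mem_subgroupOf] using h2⟩
  exact Subtype.ext (hKP hgK x hxP)

/-- For an odd prime the Sylow subgroup meets all lines but at most one. -/
theorem exists_line (h : Hyp A G q) {p : ℕ} [hp : Fact p.Prime] (hp2 : p ≠ 2)
    (hd : p ∣ Nat.card G) :
    ∃ a ∈ A, a ≠ 1 ∧ ∀ c ∈ A, c ∉ Subgroup.zpowers a → ln (syl A G p) c ≠ ⊥ := by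
  obtain ⟨S, hS⟩ := h.exists_sylow p
  obtain ⟨K, hKc, -, hKey⟩ := Cfsg.Agent.S3073.result p hp2 ↥(S : Subgroup G) S.2
  have hiff := hKey G S (MulEquiv.refl _)
  set K₁ := (K.comap (MulEquiv.refl ↥(S : Subgroup G) :
    ↥(S : Subgroup G) →* ↥(S : Subgroup G))).map (S : Subgroup G).subtype with hK₁
  set W := K₁.map G.subtype with hW
  have hSP : (S : Subgroup G).map G.subtype = syl A G p := by
    rw [hS, Subgroup.map_subgroupOf_eq_of_le (h.syl_le p)]
  have hK₁S : K₁ ≤ (S : Subgroup G) := Subgroup.map_subtype_le _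
  have hWP : W ≤ syl A G p := hSP ▸ Subgroup.map_mono hK₁S
  have hWA : A ≤ Subgroup.normalizer (W : Set X) := by
    intro a ha
    refine mem_normalizer_of_conj_le ?_
    rintro _ ⟨_, ⟨x, hx, rfl⟩, rfl⟩
    let ψ : (S : Subgroup G) ≃* syl A G p :=
      ((S : Subgroup G).equivMapOfInjective G.subtype G.subtype_injective).trans
        (MulEquiv.subgroupCongr hSP)
    let φ : MulAut ↥(S : Subgroup G) :=
      (ψ.trans ((syl A G p).normalizerMonoidHom ⟨a, h.syl_inv p ha⟩)).trans ψ.symm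
    refine ⟨_, ⟨φ x, ?_, rfl⟩, ?_⟩
    · rw [SetLike.mem_coe] at hx ⊢
      have := (Subgroup.characteristic_iff_map_le.mp hKc) φ (Subgroup.mem_map_of_mem _ hx)
      exact this
    · have h1 : ∀ z : (S : Subgroup G), ((ψ z : syl A G p) : X) = ((z : G) : X) := fun z => rfl
      rw [Subgroup.coe_subtype, Subgroup.coe_subtype, ← h1 (φ x)]
      simp only [φ, MulEquiv.trans_apply, MulEquiv.apply_symm_apply]
      rfl
  set N := G ⊓ Subgroup.normalizer (W : Set X) with hN
  have hNA := h.norm_inf hWA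
  -- some `p'`-element of the normalizer does not centralize `W`
  obtain ⟨g, hgn, hgp, hgc⟩ : ∃ g ∈ Subgroup.normalizer (K₁ : Set G), (orderOf g).Coprime p ∧
      g ∉ Subgroup.centralizer (K₁ : Set G) := by
    by_contra hne
    push Not at hne
    exact h.not_complement hd (hiff.mpr hne)
  have hgW : (g : X) ∉ Subgroup.centralizer (W : Set X) := fun hc => hgc fun y hy =>
    Subtype.ext (hc (y : X) ⟨y, hy, rfl⟩)
  have hgN : (g : X) ∈ N := ⟨g.2, mem_normalizer_of_conj_le (by
    rintro _ ⟨y, hy, rfl⟩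
    exact ⟨g * y * g⁻¹, conj_mem hgn hy, by simp⟩)⟩
  -- hence for some `r ≠ p` the invariant Sylow `r`-subgroup of `N` does not
  set C := N ⊓ Subgroup.centralizer (W : Set X) with hC
  have hCN : N ≤ Subgroup.normalizer (C : Set X) :=
    le_normalizer_inf_of_le Subgroup.le_normalizer (le_normalizer_centralizer inf_le_right)
  obtain ⟨r, hr, hrp, hrC⟩ : ∃ r : ℕ, r.Prime ∧ r ≠ p ∧ r ∣ C.relIndex N := by
    by_contra hne
    push Not at hne
    refine hgW ?_
    suffices hgC : (g : X) ∈ C from hgC.2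
    haveI : (C.subgroupOf N).Normal := Subgroup.normal_subgroupOf_of_le_normalizer hCN
    have h1 : orderOf (QuotientGroup.mk' (C.subgroupOf N) ⟨g, hgN⟩) = 1 := by
      by_contra hne1
      obtain ⟨s, hs, hsd⟩ := Nat.exists_prime_and_dvd hne1
      have h2 : s ∣ C.relIndex N := by
        rw [Subgroup.relIndex, Subgroup.index_eq_card]
        exact hsd.trans (orderOf_dvd_natCard _)
      have h3 : s ∣ orderOf g := by
        refine hsd.trans ((orderOf_map_dvd _ _).trans ?_)
        rw [← Subgroup.orderOf_coe, ← Subgroup.orderOf_coe]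
      rcases eq_or_ne s p with rfl | hsp
      · exact hs.not_dvd_one (hgp ▸ Nat.dvd_gcd h3 dvd_rfl)
      · exact hne s hs hsp h2
    rw [orderOf_eq_one_iff, QuotientGroup.mk'_apply, QuotientGroup.eq_one_iff] at h1
    exact h1
  haveI := Fact.mk hr
  set R := N ⊓ syl A G r with hR
  have hRs := h.part (inf_le_left : N ≤ G) hNA r
  have hRW : ¬ R ≤ Subgroup.centralizer (W : Set X) := fun hle =>
    hRs.2.2.2 (hrC.trans (Subgroup.relIndex_dvd_of_le_left N (le_inf inf_le_left hle)))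
  obtain ⟨a, ha, ha1, hna⟩ := h.pl.exists_ln_not_le (inf_le_left.trans inf_le_left) hRs.2.1 hRW
  refine ⟨a, ha, ha1, fun c hc hca hbot => ?_⟩
  have hRH : ln R a ≤ G := (ln_le R a).trans (inf_le_left.trans inf_le_left)
  refine h.pl.ln_ne_bot ha hc ha1 hca hRH (hWP.trans (h.syl_le p)) (h.pl.norm_ln hRs.2.1 ha)
    (fun y hy => (mem_ln.mp hy).2) hWA ((ln_le R a).trans (inf_le_left.trans inf_le_right))
    (isSolvable_of_le hWP (h.sol_syl p)) ?_ hna (le_bot_iff.mp ?_)
  · exact isPGroup_coprime hrp ((h.syl_isPGroup r).to_le ((ln_le R a).trans inf_le_right))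
      ((h.syl_isPGroup p).to_le hWP)
  · rw [← hbot]
    exact ln_mono hWP c

end Hyp

end CfsgLib.CoprimePlane
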