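import Cfsg.Agent.Lib.CoprimePlane.Pairs
import Cfsg.Agent.Lib.Hall.Wielandt

/-!
A group admitting a coprime action of a noncyclic group of order `q²` with abelian centralizers of
the nontrivial elements is solvable.
-/

set_option autoImplicit false
set_option linter.style.haveILetI false
set_option linter.unusedSectionVars false

open scoped commutatorElement Pointwise

namespace CfsgLib.CoprimePlane

open CfsgLib.Coprime

universe u

variable {X : Type u} [Group X]

namespace Hyp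

variable [Finite X] {A G : Subgroup X} {q : ℕ}

theorem mul_swap (h : Hyp A G q) {p r : ℕ} [hp : Fact p.Prime] [hr : Fact r.Prime] (hpr : p ≠ r)
    (hdp : p ∣ Nat.card G) (hdr : r ∣ Nat.card G) {x y : X} (hx : x ∈ syl A G p)
    (hy : y ∈ syl A G r) : ∃ x' ∈ syl A G p, ∃ y' ∈ syl A G r, y * x = x' * y' := by
  obtain ⟨M, hM, hPM, hRM⟩ := h.perm hpr hdp hdr
  set P := syl A G p
  set R := syl A G r
  have hP : InvSyl A p M P := by
    have := h.part hM.le hM.inv p
    rwa [inf_eq_right.mpr hPM] at this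
  have hR : InvSyl A r M R := by
    have := h.part hM.le hM.inv r
    rwa [inf_eq_right.mpr hRM] at this
  let f : P × R → M := fun z => ⟨z.1 * z.2, mul_mem (hPM z.1.2) (hRM z.2.2)⟩
  have hinj : Function.Injective f := by
    intro z w e
    have e' : (z.1 : X) * z.2 = w.1 * w.2 := congrArg Subtype.val e
    have h1 : (w.1 : X)⁻¹ * z.1 ∈ P ⊓ R := by
      refine Subgroup.mem_inf.mpr ⟨P.mul_mem (P.inv_mem w.1.2) z.1.2, ?_⟩
      rw [show (w.1 : X)⁻¹ * z.1 = w.2 * (z.2 : X)⁻¹ by
        rw [eq_mul_inv_iff_mul_eq, mul_assoc, e', inv_mul_cancel_left]]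
      exact R.mul_mem w.2.2 (R.inv_mem z.2.2)
    rw [inf_eq_bot_of_isPGroup hpr hP.2.2.1 hR.2.2.1, Subgroup.mem_bot, inv_mul_eq_one] at h1
    exact Prod.ext (Subtype.ext h1.symm) (Subtype.ext (mul_left_cancel (h1 ▸ e')))
  have hcard : Nat.card M ≤ Nat.card (P × R) := by
    rw [Nat.card_prod]
    refine Nat.le_of_dvd (Nat.mul_pos Nat.card_pos Nat.card_pos) ?_
    rw [← Nat.factorization_le_iff_dvd Nat.card_pos.ne' (mul_ne_zero Nat.card_pos.ne' Nat.card_pos.ne')]
    intro s
    rcases Nat.eq_zero_or_pos ((Nat.card M).factorization s) with e | e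
    · rw [e]; exact Nat.zero_le _
    have hs : s.Prime := Nat.prime_of_mem_primeFactors (by
      rw [← Nat.support_factorization, Finsupp.mem_support_iff]; exact e.ne')
    rw [card_invSyl hP, card_invSyl hR, Nat.factorization_mul (pow_ne_zero _ hp.out.ne_zero)
      (pow_ne_zero _ hr.out.ne_zero), Nat.factorization_pow, Nat.factorization_pow, Finsupp.add_apply,
      Finsupp.smul_apply, Finsupp.smul_apply, smul_eq_mul, smul_eq_mul]
    rcases hM.two s hs (Nat.dvd_of_factorization_pos e.ne') with rfl | rfl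
    · rw [hs.factorization_self, mul_one]; omega
    · rw [hs.factorization_self, mul_one]; omega
  obtain ⟨⟨x', y'⟩, e⟩ :=
    ((Nat.bijective_iff_injective_and_card f).mpr ⟨hinj, le_antisymm
      (Nat.card_le_card_of_injective f hinj) hcard⟩).2 ⟨y * x, mul_mem (hRM hy) (hPM hx)⟩
  exact ⟨x', x'.2, y', y'.2, (congrArg Subtype.val e).symm⟩

theorem exists_hall (h : Hyp A G q) : ∀ σ : Finset ℕ, (∀ p ∈ σ, p.Prime ∧ p ∣ Nat.card G) →
    ∃ K : Subgroup X, K ≤ G ∧ A ≤ Subgroup.normalizer (K : Set X) ∧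
      (∀ p ∈ σ, syl A G p ≤ K) ∧ Nat.card K = ∏ p ∈ σ, p ^ (Nat.card G).factorization p ∧
      ∀ p : ℕ, p.Prime → p ∣ Nat.card G → p ∉ σ → ∀ x ∈ K, ∀ y ∈ syl A G p,
        ∃ x' ∈ K, ∃ y' ∈ syl A G p, y * x = x' * y' := by
  classical
  intro σ
  induction σ using Finset.induction_on with
  | empty =>
    intro _
    refine ⟨⊥, bot_le, fun a _ => mem_normalizer_of_conj_le fun x hx => ?_, by simp, by simp,
      fun p _ _ _ x hx y hy => ⟨1, one_mem _, y, hy, ?_⟩⟩
    · rw [Subgroup.mem_bot] at hx; simp [hx]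
    · rw [Subgroup.mem_bot] at hx; simp [hx]
  | @insert p σ hpσ IH =>
    intro hσ
    obtain ⟨K, hKG, hKA, hKsyl, hKc, hK⟩ := IH fun s hs => hσ s (Finset.mem_insert_of_mem hs)
    obtain ⟨hp, hdp⟩ := hσ p (Finset.mem_insert_self p σ)
    haveI := Fact.mk hp
    set P := syl A G p with hP
    have hprod : ∀ z ∈ K ⊔ P, ∃ x ∈ K, ∃ y ∈ P, z = x * y := by
      let S : Submonoid X :=
        { carrier := {z | ∃ x ∈ K, ∃ y ∈ P, z = x * y}
          one_mem' := ⟨1, one_mem _, 1, one_mem _, by simp⟩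
          mul_mem' := by
            rintro _ _ ⟨x, hx, y, hy, rfl⟩ ⟨u, hu, v, hv, rfl⟩
            obtain ⟨u', hu', y', hy', e⟩ := hK p hp hdp hpσ u hu y hy
            refine ⟨x * u', mul_mem hx hu', y' * v, mul_mem hy' hv, ?_⟩
            calc x * y * (u * v) = x * (y * u) * v := by group
              _ = x * (u' * y') * v := by rw [e]
              _ = _ := by group }
      have hinv : ∀ z ∈ S, z⁻¹ ∈ S := fun z hz => by
        rw [← (isOfFinOrder_of_finite z).mem_powers_iff_mem_zpowers.mpr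
          (inv_mem (Subgroup.mem_zpowers z)) |>.choose_spec]
        exact S.pow_mem hz _
      let S' : Subgroup X := { S with inv_mem' := fun {z} hz => hinv z hz }
      have hle : K ⊔ P ≤ S' := sup_le (fun x hx => ⟨x, hx, 1, one_mem _, by simp⟩)
        (fun y hy => ⟨1, one_mem _, y, hy, by simp⟩)
      exact fun z hz => hle hz
    have hKP : (Nat.card K).Coprime (Nat.card P) := by
      rw [hKc, card_invSyl (h.syl_spec p)]
      refine Nat.Coprime.prod_left fun s hs => ?_
      exact (((Nat.coprime_primes (hσ s (Finset.mem_insert_of_mem hs)).1 hp).mpr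
        (fun e => hpσ (e ▸ hs))).pow _ _)
    refine ⟨K ⊔ P, sup_le hKG (h.syl_le p), le_normalizer_sup_of_le hKA (h.syl_inv p), ?_, ?_, ?_⟩
    · intro s hs
      rcases Finset.mem_insert.mp hs with rfl | hs
      · exact le_sup_right
      · exact (hKsyl s hs).trans le_sup_left
    · rw [Finset.prod_insert hpσ, ← hKc, ← card_invSyl (h.syl_spec p), mul_comm]
      refine le_antisymm ?_ (Nat.le_of_dvd Nat.card_pos (Nat.Coprime.mul_dvd_of_dvd_of_dvd hKP
        (Subgroup.card_dvd_of_le le_sup_left) (Subgroup.card_dvd_of_le le_sup_right)))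
      rw [← Nat.card_prod]
      refine Nat.card_le_card_of_surjective
        (fun z : K × P => (⟨z.1 * z.2, mul_mem (Subgroup.mem_sup_left z.1.2)
          (Subgroup.mem_sup_right z.2.2)⟩ : ↥(K ⊔ P))) fun z => ?_
      obtain ⟨x, hx, y, hy, e⟩ := hprod z z.2
      exact ⟨(⟨x, hx⟩, ⟨y, hy⟩), Subtype.ext e.symm⟩
    · intro r hr hdr hrσ z hz w hw
      haveI := Fact.mk hr
      rw [Finset.mem_insert, not_or] at hrσ
      obtain ⟨x, hx, y, hy, rfl⟩ := hprod z hz
      obtain ⟨x', hx', w', hw', e1⟩ := hK r hr hdr hrσ.2 x hx w hw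
      obtain ⟨y', hy', w'', hw'', e2⟩ := h.mul_swap (Ne.symm hrσ.1) hdp hdr hy hw'
      refine ⟨x' * y', mul_mem (Subgroup.mem_sup_left hx') (Subgroup.mem_sup_right hy'), w'', hw'', ?_⟩
      calc w * (x * y) = (w * x) * y := by group
        _ = x' * (w' * y) := by rw [e1, mul_assoc]
        _ = x' * (y' * w'') := by rw [e2]
        _ = _ := by group

/-- A minimal configuration does not exist. -/
theorem false_of (h : Hyp A G q) : False := by
  classical
  set π := (Nat.card G).primeFactors with hπ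
  have hmem : ∀ p ∈ π, p.Prime ∧ p ∣ Nat.card G := fun p hp =>
    ⟨Nat.prime_of_mem_primeFactors hp, Nat.dvd_of_mem_primeFactors hp⟩
  have hmem' : ∀ s : ℕ, s.Prime → s ∣ Nat.card G → s ∈ π := fun s hs hd =>
    Nat.mem_primeFactors.mpr ⟨hs, hd, Nat.card_pos.ne'⟩
  obtain ⟨p₁, hp₁, p₂, hp₂, p₃, hp₃, h12, h13, h23⟩ :
      ∃ a ∈ π, ∃ b ∈ π, ∃ c ∈ π, a ≠ b ∧ a ≠ c ∧ b ≠ c := by
    by_contra hne
    push Not at hne
    have hG1 : 1 < Nat.card G := G.one_lt_card_iff_ne_bot.mpr h.bot_ne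
    obtain ⟨a, ha, had⟩ := Nat.exists_prime_and_dvd hG1.ne'
    haveI := Fact.mk ha
    by_cases hb : ∃ b ∈ π, b ≠ a
    · obtain ⟨b, hbπ, hba⟩ := hb
      haveI := Fact.mk (hmem b hbπ).1
      refine h.pair_ne (p := a) (r := b) ⟨le_rfl, h.pl.norm, fun s hs hd => ?_⟩ rfl
      by_contra hs'
      push Not at hs'
      exact hs'.2 (hne a (hmem' a ha had) b hbπ s (hmem' s hs hd) hba.symm (Ne.symm hs'.1)).symm
    · push Not at hb
      exact h.pair_ne (p := a) (r := a) ⟨le_rfl, h.pl.norm, fun s hs hd =>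
        Or.inl (hb s (hmem' s hs hd))⟩ rfl
  have key : ∀ p ∈ π, ∃ K : Subgroup G, Group.IsSolvable K ∧
      K.index = p ^ (Nat.card G).factorization p := by
    intro p hp
    obtain ⟨K, hKG, hKA, -, hKc, -⟩ := h.exists_hall (π.erase p) fun s hs =>
      hmem s (Finset.mem_of_mem_erase hs)
    have htot : Nat.card G = Nat.card K * p ^ (Nat.card G).factorization p := by
      conv_lhs => rw [← Nat.prod_factorization_pow_eq_self (n := Nat.card G) Nat.card_pos.ne', Finsupp.prod, Nat.support_factorization]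
      rw [hKc, mul_comm, hπ]
      exact (Finset.mul_prod_erase _ (fun a => a ^ (Nat.card G).factorization a) hp).symm
    have hne : K ≠ G := by
      rintro rfl
      have h1 : p ^ (Nat.card K).factorization p = 1 :=
        Nat.eq_of_mul_eq_mul_left Nat.card_pos (by rw [mul_one]; exact htot.symm)
      have h2 : 0 < (Nat.card K).factorization p :=
        (hmem p hp).1.factorization_pos_of_dvd Nat.card_pos.ne' (hmem p hp).2
      exact absurd h1 (Nat.one_lt_pow h2.ne' (hmem p hp).1.one_lt).ne'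
    refine ⟨K.subgroupOf G, ?_, ?_⟩
    · haveI := h.proper K hKG hKA hne
      exact Group.isSolvable_of_surjective (f := (Subgroup.subgroupOfEquivOfLe hKG).symm.toMonoidHom)
        (Subgroup.subgroupOfEquivOfLe hKG).symm.surjective
    · have h1 := (K.subgroupOf G).index_mul_card
      rw [Nat.card_congr (Subgroup.subgroupOfEquivOfLe hKG).toEquiv, htot, mul_comm] at h1
      exact Nat.eq_of_mul_eq_mul_left Nat.card_pos h1
  obtain ⟨K₁, hs1, hi1⟩ := key p₁ hp₁
  obtain ⟨K₂, hs2, hi2⟩ := key p₂ hp₂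
  obtain ⟨K₃, hs3, hi3⟩ := key p₃ hp₃
  have hc : ∀ {a b : ℕ}, a ∈ π → b ∈ π → a ≠ b → ∀ i j : ℕ, (a ^ i).Coprime (b ^ j) :=
    fun ha hb hab i j => ((Nat.coprime_primes (hmem _ ha).1 (hmem _ hb).1).mpr hab).pow i j
  refine h.ns (Hall.isSolvable_of_three K₁ K₂ K₃ hs1 hs2 hs3 (fun g => ?_) (fun g => ?_) ?_)
  · exact Hall.exists_eq_mul_of_coprime_index (by rw [hi1, hi2]; exact hc hp₁ hp₂ h12 _ _) g
  · exact Hall.exists_eq_mul_of_coprime_index (by rw [hi1, hi3]; exact hc hp₁ hp₃ h13 _ _) g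
  · rw [hi2, hi3]; exact hc hp₂ hp₃ h23 _ _

end Hyp

theorem isSolvable_aux (n : ℕ) : ∀ {X : Type u} [Group X] [Finite X] {A G : Subgroup X} {q : ℕ},
    Nat.card G = n → Pl A G q → Group.IsSolvable G := by
  induction n using Nat.strong_induction_on with
  | _ n IH =>
  intro X _ _ A G q hn h
  by_contra hns
  have hproper : ∀ K : Subgroup X, K ≤ G → A ≤ Subgroup.normalizer (K : Set X) → K ≠ G →
      Group.IsSolvable K := fun K hK hKA hne => by
    refine IH _ ?_ rfl (h.mono hK hKA)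
    rw [← hn]
    by_contra hlt
    exact hne (Subgroup.eq_of_le_of_card_ge hK (not_lt.mp hlt))
  refine Hyp.false_of (A := A) (G := G) (q := q) ⟨h, hns, hproper, fun N hNG hNA hn' => ?_⟩
  by_contra hne
  push Not at hne
  obtain ⟨hN0, hN1⟩ := hne
  set Z := Subgroup.normalizer (N : Set X) with hZ
  have hAZ : A ≤ Z := hNA
  have hGZ : G ≤ Z := hn'
  haveI : (N.subgroupOf Z).Normal := Subgroup.normal_in_normalizer
  set f := QuotientGroup.mk' (N.subgroupOf Z) with hf
  have hker : f.ker ⊓ A.subgroupOf Z = ⊥ := by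
    rw [hf, QuotientGroup.ker_mk', Subgroup.eq_bot_iff_forall]
    intro x hx
    have h1 : (x : X) ∈ A ⊓ N := ⟨hx.2, hx.1⟩
    rw [inf_eq_bot_of_coprime_card (h.coprime_sub hNG), Subgroup.mem_bot] at h1
    exact Subtype.ext h1
  have h' := (h.subgroupOf hAZ hGZ).map f hker
  have hlt : Nat.card ↥((G.subgroupOf Z).map f) < n := by
    have h1 : Nat.card ↥((G.subgroupOf Z).map f) * Nat.card ↥(f.ker ⊓ G.subgroupOf Z : Subgroup Z)
        = Nat.card ↥(G.subgroupOf Z) := by
      have h2 := relIndex_mul_card_inf f.ker (G.subgroupOf Z)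
      rwa [Subgroup.relIndex_ker] at h2
    have hker' : f.ker ≤ G.subgroupOf Z := by
      rw [hf, QuotientGroup.ker_mk']
      exact fun x hx => hNG hx
    rw [inf_eq_left.mpr hker', hf, QuotientGroup.ker_mk',
      Nat.card_congr (Subgroup.subgroupOfEquivOfLe (hNG.trans hGZ)).toEquiv,
      Nat.card_congr (Subgroup.subgroupOfEquivOfLe hGZ).toEquiv, hn] at h1
    rw [← h1]
    exact lt_mul_of_one_lt_right Nat.card_pos (N.one_lt_card_iff_ne_bot.mpr hN0)
  haveI := IH _ hlt rfl h'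
  haveI := hproper N hNG hNA hN1
  let g : G →* ↥((G.subgroupOf Z).map f) :=
    (f.subgroupMap (G.subgroupOf Z)).comp (Subgroup.subgroupOfEquivOfLe hGZ).symm.toMonoidHom
  refine hns (solvable_of_ker_le_range (Subgroup.inclusion hNG) g fun x hx => ?_)
  have h1 : f ⟨(x : X), hGZ x.2⟩ = 1 := congrArg Subtype.val hx
  rw [hf, QuotientGroup.mk'_apply, QuotientGroup.eq_one_iff] at h1
  exact ⟨⟨x, h1⟩, rfl⟩

/-- **Main theorem**, internal form. -/
theorem isSolvable_of_plane [Finite X] {A G : Subgroup X} {q : ℕ} (hq : q.Prime)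
    (hcomm : ∀ a ∈ A, ∀ b ∈ A, a * b = b * a) (hcard : Nat.card A = q ^ 2)
    (hexp : ∀ a ∈ A, a ^ q = 1) (hnorm : A ≤ Subgroup.normalizer (G : Set X))
    (hcop : (Nat.card G).Coprime q)
    (hab : ∀ a ∈ A, a ≠ 1 → ∀ x ∈ G, ∀ y ∈ G, a * x = x * a → a * y = y * a → x * y = y * x) :
    Group.IsSolvable G := by
  haveI hAc : IsMulCommutative A := ⟨⟨fun a b => Subtype.ext (hcomm a a.2 b b.2)⟩⟩
  have hAG : (Nat.card A).Coprime (Nat.card G) := by rw [hcard]; exact (hcop.pow_right 2).symm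
  set N := G ⊓ Subgroup.centralizer (A : Set X) with hN
  have hGN : G ≤ Subgroup.centralizer (N : Set X) := by
    refine le_of_centralizer_le (not_isCyclic_of_exponent hexp hq.pos
      (by rw [hcard]; exact lt_self_pow₀ hq.one_lt one_lt_two)) hnorm hAG fun a ha ha1 x hx y hy => ?_
    exact hab a ha ha1 y hy.1 x hx.1 (hy.2 a ha) (mem_cent_singleton.mp hx.2)
  set Z := Subgroup.normalizer (N : Set X) with hZ
  have hGZ : G ≤ Z := hGN.trans (Subgroup.centralizer_le_normalizer _)
  have hAZ : A ≤ Z := le_normalizer_inf_of_le hnorm (le_normalizer_centralizer Subgroup.le_normalizer)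
  haveI : (N.subgroupOf Z).Normal := Subgroup.normal_in_normalizer
  set f := QuotientGroup.mk' (N.subgroupOf Z) with hf
  set A₀ := A.subgroupOf Z with hA₀
  set G₀ := G.subgroupOf Z with hG₀
  have hA₀c : Nat.card A₀ = q ^ 2 := by
    rw [hA₀, Nat.card_congr (Subgroup.subgroupOfEquivOfLe hAZ).toEquiv, hcard]
  have hker : f.ker ⊓ A₀ = ⊥ := by
    rw [hf, QuotientGroup.ker_mk', Subgroup.eq_bot_iff_forall]
    intro x hx
    have h1 : (x : X) ∈ A ⊓ N := ⟨hx.2, hx.1⟩
    rw [inf_eq_bot_of_coprime_card (hAG.coprime_dvd_right (Subgroup.card_dvd_of_le inf_le_left)),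
      Subgroup.mem_bot] at h1
    exact Subtype.ext h1
  haveI : IsMulCommutative A₀ :=
    ⟨⟨fun a b => Subtype.ext (Subtype.ext (hcomm (a : Z) a.2 (b : Z) b.2))⟩⟩
  have hnorm₀ : A₀ ≤ Subgroup.normalizer (G₀ : Set Z) := fun a ha =>
    mem_normalizer_of_conj_le fun x hx => by
      simp only [hG₀, Subgroup.mem_subgroupOf] at hx ⊢
      simpa using conj_mem (hnorm ha) hx
  have hcop₀ : (Nat.card G₀).Coprime q := by
    rwa [hG₀, Nat.card_congr (Subgroup.subgroupOfEquivOfLe hGZ).toEquiv]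
  have hAG₀ : (Nat.card A₀).Coprime (Nat.card G₀) := by rw [hA₀c]; exact (hcop₀.pow_right 2).symm
  have hpl : Pl (A₀.map f) (G₀.map f) q := by
    refine ⟨hq, ?_, ?_, ?_, (Subgroup.map_mono hnorm₀).trans (Subgroup.le_normalizer_map f),
      hcop₀.coprime_dvd_left (Subgroup.card_map_dvd G₀ f), ?_, ?_⟩
    · rintro _ ⟨a, ha, rfl⟩ _ ⟨b, hb, rfl⟩
      rw [← map_mul, ← map_mul]
      exact congrArg f (Subtype.ext (hcomm (a : X) ha (b : X) hb))
    · have h2 : Function.Injective (f.comp A₀.subtype) := by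
        rw [← MonoidHom.ker_eq_bot_iff, Subgroup.eq_bot_iff_forall]
        intro a ha
        have h3 : (a : Z) ∈ f.ker ⊓ A₀ := ⟨ha, a.2⟩
        rw [hker, Subgroup.mem_bot] at h3
        exact Subtype.ext h3
      have h4 : (f.comp A₀.subtype).range = A₀.map f := by
        rw [MonoidHom.range_comp, Subgroup.range_subtype]
      rw [← hA₀c, ← h4]
      exact (Nat.card_congr (MonoidHom.ofInjective h2).toEquiv).symm
    · rintro _ ⟨a, ha, rfl⟩
      rw [← map_pow, show a ^ q = 1 from Subtype.ext (by simpa using hexp a ha), map_one]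
    · intro x hx hfix
      have h1 := map_inf_centralizer hnorm₀ hAG₀ (Or.inl (isSolvable_of_isMulCommutative A₀)) f
      have h2 : x ∈ G₀.map f ⊓ Subgroup.centralizer ((A₀.map f : Subgroup _) : Set _) :=
        ⟨hx, fun a ha => hfix a ha⟩
      rw [← h1] at h2
      obtain ⟨y, hy, rfl⟩ := h2
      refine (QuotientGroup.eq_one_iff y).mpr (Subgroup.mem_subgroupOf.mpr ⟨hy.1, fun a ha => ?_⟩)
      exact congrArg Subtype.val (hy.2 ⟨a, hAZ ha⟩ ha)
    · rintro _ ⟨a, ha, rfl⟩ ha1 x hx y hy hax hay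
      have hza : Subgroup.zpowers a ≤ A₀ := Subgroup.zpowers_le.mpr ha
      have h1 := map_inf_centralizer (hza.trans hnorm₀)
        (hAG₀.coprime_dvd_left (Subgroup.card_dvd_of_le hza))
        (Or.inl (isSolvable_of_isMulCommutative _)) f (K := G₀)
      have hmem : ∀ z ∈ G₀.map f, f a * z = z * f a →
          z ∈ (G₀ ⊓ Subgroup.centralizer ((Subgroup.zpowers a : Subgroup Z) : Set Z)).map f := by
        intro z hz e
        rw [h1]
        refine ⟨hz, ?_⟩
        rintro _ ⟨g, hg, rfl⟩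
        obtain ⟨i, rfl⟩ := Subgroup.mem_zpowers_iff.mp hg
        rw [map_zpow]
        exact (show Commute (f a) z from e).zpow_left i
      obtain ⟨u, hu, rfl⟩ := hmem x hx hax
      obtain ⟨v, hv, rfl⟩ := hmem y hy hay
      have h5 := hab (a : X) ha (fun e => ha1 (by rw [show a = 1 from Subtype.ext e, map_one]))
        (u : X) hu.1 (v : X) hv.1 (congrArg Subtype.val (hu.2 a (Subgroup.mem_zpowers a)))
        (congrArg Subtype.val (hv.2 a (Subgroup.mem_zpowers a)))
      rw [← map_mul, ← map_mul]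
      exact congrArg f (Subtype.ext h5)
  haveI := isSolvable_aux _ rfl hpl
  haveI : Group.IsSolvable N :=
    Group.isSolvable_of_comm fun a b => Subtype.ext (hGN b.2.1 a a.2)
  let g : G →* ↥(G₀.map f) :=
    (f.subgroupMap G₀).comp (Subgroup.subgroupOfEquivOfLe hGZ).symm.toMonoidHom
  refine solvable_of_ker_le_range (Subgroup.inclusion (inf_le_left : N ≤ G)) g fun x hx => ?_
  have h1 : f ⟨(x : X), hGZ x.2⟩ = 1 := congrArg Subtype.val hx
  rw [hf, QuotientGroup.mk'_apply, QuotientGroup.eq_one_iff] at h1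
  exact ⟨⟨x, h1⟩, rfl⟩

end CfsgLib.CoprimePlane
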