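import Cfsg.Agent.Lib.CoprimePlane.Global

/-!
In a minimal configuration any two invariant Sylow subgroups permute.
-/

set_option autoImplicit false
set_option linter.style.haveILetI false
set_option linter.unusedSectionVars false

open scoped commutatorElement Pointwise

namespace CfsgLib.CoprimePlane

open CfsgLib.Coprime

universe u

variable {X : Type u} [Group X]

theorem le_normalizer_commutator_left [Finite X] (P B : Subgroup X) :
    P ≤ Subgroup.normalizer ((⁅P, B⁆ : Subgroup X) : Set X) := by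
  intro x hx
  refine mem_normalizer_of_conj_le fun z hz => ?_
  have hle : ⁅P, B⁆ ≤ (⁅P, B⁆).comap (MulAut.conj x).toMonoidHom := by
    refine Subgroup.commutator_le.mpr fun y hy b hb => ?_
    show x * ⁅y, b⁆ * x⁻¹ ∈ ⁅P, B⁆
    rw [show x * ⁅y, b⁆ * x⁻¹ = ⁅x * y, b⁆ * ⁅x, b⁆⁻¹ by
      simp only [commutatorElement_def]; group]
    exact mul_mem (Subgroup.commutator_mem_commutator (mul_mem hx hy) hb)
      (inv_mem (Subgroup.commutator_mem_commutator hx hb))
  exact hle hz

/-- Frattini argument in a product of a `p`-group and an `r`-group. -/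
theorem frattini_pair [Finite X] {p r : ℕ} [hp : Fact p.Prime] [hr : Fact r.Prime] (hpr : p ≠ r)
    {U R : Subgroup X} (hU : IsPGroup p U) (hR : IsPGroup r R)
    (hRU : R ≤ Subgroup.normalizer (U : Set X)) {x : X}
    (hx : x ∈ Subgroup.normalizer ((R ⊔ U : Subgroup X) : Set X)) :
    ∃ u ∈ U, u⁻¹ * x ∈ Subgroup.normalizer (R : Set X) := by
  set M := R ⊔ U with hM
  set R₁ := MulAut.conj x • R with hR₁
  have hR₁M : R₁ ≤ M := by
    rintro _ ⟨z, hz, rfl⟩
    exact conj_mem hx (Subgroup.mem_sup_left hz)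
  have hMc : Nat.card M = Nat.card U * Nat.card R := by
    rw [hM, sup_comm]
    exact card_sup_of_coprime hRU (isPGroup_coprime hpr hU hR)
  have hi : ∀ W : Subgroup X, W ≤ M → Nat.card W = Nat.card R → ¬ r ∣ W.relIndex M := by
    intro W hW hc hd
    have h1 := Subgroup.relIndex_mul_relIndex ⊥ W M bot_le hW
    simp only [Subgroup.relIndex_bot_left, hc, hMc] at h1
    have h2 : W.relIndex M = Nat.card U := by
      rw [mul_comm (Nat.card U)] at h1
      exact Nat.eq_of_mul_eq_mul_left Nat.card_pos h1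
    obtain ⟨j, hj⟩ := IsPGroup.iff_card.mp hU
    rw [h2, hj] at hd
    exact hpr ((Nat.prime_dvd_prime_iff_eq hr.out hp.out).mp (hr.out.dvd_of_dvd_pow hd)).symm
  have hSyl : ∀ W : Subgroup X, W ≤ M → IsPGroup r W → Nat.card W = Nat.card R →
      ∃ S : Sylow r M, (S : Subgroup M).map M.subtype = W := by
    intro W hW hp' hc
    refine ⟨(hp'.comap_of_injective M.subtype M.subtype_injective).toSylow ?_, ?_⟩
    · have := hi W hW hc
      rwa [Subgroup.relIndex] at this
    · exact Subgroup.map_subgroupOf_eq_of_le hW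
  obtain ⟨S, hS⟩ := hSyl R le_sup_left hR rfl
  obtain ⟨S₁, hS₁⟩ := hSyl R₁ hR₁M (hR.map _) (card_conj_smul x R)
  obtain ⟨m, hm⟩ := MulAction.exists_smul_eq M S S₁
  have e : MulAut.conj (m : X) • R = MulAut.conj x • R := by
    rw [← hS, ← map_subtype_conj_smul_sylow, hm, hS₁, hS, hR₁]
  obtain ⟨u, hu, ρ, hρ, hm'⟩ : ∃ u ∈ U, ∃ ρ ∈ R, (m : X) = u * ρ := by
    have h1 : (m : X) ∈ U ⊔ R := by rw [sup_comm]; exact m.2
    rw [← SetLike.mem_coe, Subgroup.coe_mul_of_right_le_normalizer_left U R hRU, Set.mem_mul] at h1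
    obtain ⟨u, hu, ρ, hρ, e⟩ := h1
    exact ⟨u, hu, ρ, hρ, e.symm⟩
  refine ⟨u, hu, ?_⟩
  rw [mem_normalizer_iff_conj_smul, map_mul, mul_smul, ← e, hm', map_mul, mul_smul,
    conj_smul_eq_of_mem hρ, ← mul_smul, ← map_mul, inv_mul_cancel, map_one, one_smul]

/-- `O_p(M)` for a pair `M`. -/
abbrev opc (A G : Subgroup X) (p : ℕ) (M : Subgroup X) : Subgroup X := cor M (M ⊓ syl A G p)

/-- The invariant Sylow subgroups for `p` and `r` permute. -/
def Perm (A G : Subgroup X) (p r : ℕ) : Prop :=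
  ∃ M, Pair A G p r M ∧ syl A G p ≤ M ∧ syl A G r ≤ M

theorem Perm.symm {A G : Subgroup X} {p r : ℕ} : Perm A G p r → Perm A G r p :=
  fun ⟨M, hM, h1, h2⟩ => ⟨M, hM.symm, h2, h1⟩

namespace Hyp

variable [Finite X] {A G : Subgroup X} {q : ℕ}

theorem opc_inv (h : Hyp A G q) {p : ℕ} [Fact p.Prime] {M : Subgroup X}
    (hM : A ≤ Subgroup.normalizer (M : Set X)) :
    A ≤ Subgroup.normalizer (opc A G p M : Set X) :=
  cor_invariant hM (le_normalizer_inf_of_le hM (h.syl_inv p))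

theorem opc_le_syl (A G : Subgroup X) (p : ℕ) (M : Subgroup X) : opc A G p M ≤ syl A G p :=
  (cor_le _ _).trans inf_le_right

theorem opc_le (A G : Subgroup X) (p : ℕ) (M : Subgroup X) : opc A G p M ≤ M :=
  (cor_le _ _).trans inf_le_left

theorem opc_isPGroup (h : Hyp A G q) (p : ℕ) [Fact p.Prime] (M : Subgroup X) :
    IsPGroup p (opc A G p M) := (h.syl_isPGroup p).to_le (opc_le_syl A G p M)

variable {p r : ℕ} [Fact p.Prime] [Fact r.Prime]

theorem structure_pair (h : Hyp A G q) (hpr : p ≠ r) {M : Subgroup X} (hM : Pair A G p r M) :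
    M ≤ Subgroup.normalizer (((M ⊓ syl A G p) ⊔ opc A G r M : Subgroup X) : Set X) :=
  h.pl.structure_two hpr hM.le hM.inv (h.pair_sol hM) hM.two (h.part hM.le hM.inv p)
    (h.part hM.le hM.inv r)

theorem opc_commute (h : Hyp A G q) (hpr : p ≠ r) (M : Subgroup X) :
    opc A G p M ≤ Subgroup.centralizer (opc A G r M : Set X) :=
  commute_of_inf_eq_bot ((opc_le A G p M).trans (le_normalizer_cor M _))
    ((opc_le A G r M).trans (le_normalizer_cor M _))
    (inf_eq_bot_of_isPGroup hpr (h.opc_isPGroup p M) (h.opc_isPGroup r M))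

theorem centralizer_opc_le (h : Hyp A G q) (hpr : p ≠ r) {M : Subgroup X} (hM : Pair A G p r M) :
    M ⊓ syl A G p ⊓ Subgroup.centralizer (opc A G r M : Set X) ≤ opc A G p M :=
  le_cor inf_le_left (le_normalizer_centralizer_inf hpr.symm (h.opc_isPGroup r M)
    ((h.syl_isPGroup p).to_le inf_le_right) (le_normalizer_cor M _) (h.structure_pair hpr hM)
    (inf_le_left.trans (le_normalizer_cor M _)))

theorem syl_pair (h : Hyp A G q) (p r : ℕ) [hp : Fact p.Prime] :
    Pair A G p r (syl A G p) :=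
  ⟨h.syl_le p, h.syl_inv p, fun s hs hd => by
    obtain ⟨n, hn⟩ := IsPGroup.iff_card.mp (h.syl_isPGroup p)
    rw [hn] at hd
    exact Or.inl ((Nat.prime_dvd_prime_iff_eq hs hp.out).mp (hs.dvd_of_dvd_pow hd))⟩

theorem max_ne_bot (h : Hyp A G q) (hdp : p ∣ Nat.card G) {M : Subgroup X}
    (hM : MaxPair A G p r M) : M ≠ ⊥ :=
  fun e => h.syl_ne_bot hdp ((hM.2 _ (h.syl_pair p r) (e ▸ bot_le)).trans e)

/-- Trivial `O_r`: the Sylow `p`-subgroup is a normal subgroup of `M`. -/
theorem pure_spec (h : Hyp A G q) (hpr : p ≠ r) (hdp : p ∣ Nat.card G) {M : Subgroup X}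
    (hM : MaxPair A G p r M) (hT : opc A G r M = ⊥) :
    syl A G p ≤ M ∧ M ≤ Subgroup.normalizer (syl A G p : Set X) := by
  have hst := h.structure_pair hpr hM.1
  rw [hT, sup_bot_eq] at hst
  have hQ : M ⊓ syl A G p ≠ ⊥ := by
    intro e
    have h1 := h.pair_sup hM.1
    rw [e, bot_sup_eq] at h1
    have h2 : M ⊓ syl A G r ≤ opc A G r M :=
      le_cor le_rfl (fun m hm => by rw [h1]; exact Subgroup.le_normalizer hm)
    rw [hT, h1, le_bot_iff] at h2
    exact h.max_ne_bot hdp hM h2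
  have h1 := (h.normal_le hM inf_le_left (le_normalizer_inf_of_le hM.1.inv (h.syl_inv p)) hQ hst).1
  have hPM : syl A G p ≤ M :=
    (normalizer_eq_self_imp (h.syl_isPGroup p) inf_le_right
      (le_inf h1 inf_le_left)).trans inf_le_left
  refine ⟨hPM, ?_⟩
  rwa [inf_eq_right.mpr hPM] at hst

theorem not_both_trivial (h : Hyp A G q) (hpr : p ≠ r) (hdp : p ∣ Nat.card G)
    (hdr : r ∣ Nat.card G) (hno : ¬ Perm A G p r) {M : Subgroup X} (hM : MaxPair A G p r M)
    (hT : opc A G r M = ⊥) : opc A G p M ≠ ⊥ := fun hU =>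
  hno ⟨M, hM.1, (h.pure_spec hpr hdp hM hT).1, (h.pure_spec hpr.symm hdr hM.symm hU).1⟩

/-- A maximal pair with both cores nontrivial. -/
def Mixed (A G : Subgroup X) (p r : ℕ) (M : Subgroup X) : Prop :=
  MaxPair A G p r M ∧ opc A G p M ≠ ⊥ ∧ opc A G r M ≠ ⊥

theorem Mixed.symm {M : Subgroup X} (hM : Mixed A G p r M) : Mixed A G r p M :=
  ⟨hM.1.symm, hM.2.2, hM.2.1⟩

theorem eq_half (h : Hyp A G q) (hpr : p ≠ r) {M N : Subgroup X} (hM : Mixed A G p r M)
    (hN : Mixed A G p r N) (hT : opc A G r M ≤ N) (hU : opc A G p N ≤ M) :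
    opc A G r N ≤ M ∧ opc A G r M ≤ opc A G r N ∧ opc A G p N ≤ opc A G p M := by
  have hcomm : opc A G r M ≤ Subgroup.centralizer (opc A G p N : Set X) :=
    commute_of_inf_eq_bot (hT.trans (le_normalizer_cor N _)) (hU.trans (le_normalizer_cor M _))
      (inf_eq_bot_of_isPGroup hpr.symm (h.opc_isPGroup r M) (h.opc_isPGroup p N))
  have hT12 : opc A G r M ≤ opc A G r N := (le_inf (le_inf hT (opc_le_syl A G r M)) hcomm).trans
    (h.centralizer_opc_le hpr.symm hN.1.1.symm)
  have hU21 : opc A G p N ≤ opc A G p M :=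
    (le_inf (le_inf hU (opc_le_syl A G p N)) (le_centralizer_symm hcomm)).trans
      (h.centralizer_opc_le hpr hM.1.1)
  refine ⟨?_, hT12, hU21⟩
  set U₁ := opc A G p M
  set U₂ := opc A G p N
  set T₁ := opc A G r M
  set T₂ := opc A G r N
  set CU := U₁ ⊓ Subgroup.centralizer (U₂ : Set X) with hCU
  set CT := T₂ ⊓ Subgroup.centralizer (T₁ : Set X) with hCT
  have hCUN : CU ≤ N := le_trans (le_inf (inf_le_left.trans (opc_le_syl A G p M))
      (inf_le_right.trans (Subgroup.centralizer_le_normalizer _)))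
    (h.normal_le hN.1 (opc_le A G p N) (h.opc_inv hN.1.1.inv) hN.2.1 (le_normalizer_cor N _)).1
  have hCTM : CT ≤ M := le_trans (le_inf (inf_le_left.trans (opc_le_syl A G r N))
      (inf_le_right.trans (Subgroup.centralizer_le_normalizer _)))
    (h.normal_le hM.1 (opc_le A G r M) (h.opc_inv hM.1.1.inv) hM.2.2 (le_normalizer_cor M _)).2
  have hU1T1 : U₁ ≤ Subgroup.centralizer (T₁ : Set X) := h.opc_commute hpr M
  have hT2U2 : T₂ ≤ Subgroup.centralizer (U₂ : Set X) := h.opc_commute hpr.symm N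
  have h1 : CU ≤ Subgroup.normalizer (CT : Set X) := le_normalizer_inf_of_le
    (hCUN.trans (le_normalizer_cor N _)) ((inf_le_left.trans hU1T1).trans Subgroup.le_normalizer)
  have h2 : CT ≤ Subgroup.normalizer (CU : Set X) := le_normalizer_inf_of_le
    (hCTM.trans (le_normalizer_cor M _)) ((inf_le_left.trans hT2U2).trans Subgroup.le_normalizer)
  have hcomm2 : CU ≤ Subgroup.centralizer (CT : Set X) := commute_of_inf_eq_bot h1 h2
    (inf_eq_bot_of_isPGroup hpr ((h.opc_isPGroup p M).to_le inf_le_left)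
      ((h.opc_isPGroup r N).to_le inf_le_left))
  have hCUT₂ : CU ≤ Subgroup.centralizer (T₂ : Set X) := by
    refine pxq (h.opc_isPGroup r M) ?_ (le_centralizer_symm (inf_le_left.trans hU1T1))
      (h.opc_isPGroup r N) (hT.trans (le_normalizer_cor N _)) (hCUN.trans (le_normalizer_cor N _))
      (le_centralizer_symm hcomm2)
    obtain ⟨n, hn⟩ := IsPGroup.iff_card.mp ((h.opc_isPGroup p M).to_le (inf_le_left : CU ≤ U₁))
    rw [hn]
    exact ((Nat.coprime_primes (Fact.out : p.Prime) (Fact.out : r.Prime)).mpr hpr).pow_left n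
  have hCU2 : CU ≤ U₂ := (le_inf (le_inf hCUN (inf_le_left.trans (opc_le_syl A G p M))) hCUT₂).trans
    (h.centralizer_opc_le hpr hN.1.1)
  set Z := U₁ ⊓ Subgroup.centralizer (U₁ : Set X) with hZ
  have hZ2 : Z ≤ U₂ := (inf_le_inf_left U₁ (Subgroup.centralizer_le hU21)).trans hCU2
  have hZA : A ≤ Subgroup.normalizer (Z : Set X) :=
    le_normalizer_inf_of_le (h.opc_inv hM.1.1.inv) (le_normalizer_centralizer (h.opc_inv hM.1.1.inv))
  have h3 := (h.normal_le hM.1 (inf_le_left.trans (opc_le A G p M)) hZA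
    (inf_centralizer_self_ne_bot (h.opc_isPGroup p M) hM.2.1)
    (le_normalizer_inf_of_le (le_normalizer_cor M _)
      (le_normalizer_centralizer (le_normalizer_cor M _)))).2
  exact (le_inf (opc_le_syl A G r N) ((hT2U2.trans (Subgroup.centralizer_le hZ2)).trans
    (Subgroup.centralizer_le_normalizer _))).trans h3

theorem eq_of_cores (h : Hyp A G q) (hpr : p ≠ r) {M N : Subgroup X} (hM : Mixed A G p r M)
    (hN : Mixed A G p r N) (hT : opc A G r M ≤ N) (hU : opc A G p N ≤ M) : M = N := by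
  obtain ⟨hT2M, hT12, hU21⟩ := h.eq_half hpr hM hN hT hU
  obtain ⟨hU1N, -, -⟩ := h.eq_half hpr.symm hN.symm hM.symm hU hT
  obtain ⟨-, hT21, hU12⟩ := h.eq_half hpr hN hM hT2M hU1N
  have hTe := le_antisymm hT12 hT21
  have hUe := le_antisymm hU12 hU21
  have hle : M ≤ N := by
    rw [← h.pair_sup hM.1.1]
    refine sup_le ?_ ?_
    · refine le_trans (le_inf inf_le_right ?_) (h.normal_le hN.1 (opc_le A G p N)
        (h.opc_inv hN.1.1.inv) hN.2.1 (le_normalizer_cor N _)).1
      rw [← hUe]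
      exact inf_le_left.trans (le_normalizer_cor M _)
    · refine le_trans (le_inf inf_le_right ?_) (h.normal_le hN.1 (opc_le A G r N)
        (h.opc_inv hN.1.1.inv) hN.2.2 (le_normalizer_cor N _)).2
      rw [← hTe]
      exact inf_le_left.trans (le_normalizer_cor M _)
  exact (hM.1.2 N hN.1.1 hle).symm

theorem eq_of_fitting (h : Hyp A G q) (hpr : p ≠ r) {M N : Subgroup X} (hM : Mixed A G p r M)
    (hN : Mixed A G p r N) (hT : opc A G r M ≤ N) (hU : opc A G p M ≤ N) : M = N := by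
  refine h.eq_of_cores hpr hM hN hT ?_
  set U₁ := opc A G p M
  set U₂ := opc A G p N
  set T₁ := opc A G r M
  set D := U₂ ⊓ Subgroup.centralizer (U₁ : Set X) with hD
  have hDM : D ≤ M := le_trans (le_inf (inf_le_left.trans (opc_le_syl A G p N))
      (inf_le_right.trans (Subgroup.centralizer_le_normalizer _)))
    (h.normal_le hM.1 (opc_le A G p M) (h.opc_inv hM.1.1.inv) hM.2.1 (le_normalizer_cor M _)).1
  have hT1U1 : T₁ ≤ Subgroup.centralizer (U₁ : Set X) := h.opc_commute hpr.symm M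
  have h1 : T₁ ≤ Subgroup.normalizer (D : Set X) := le_normalizer_inf_of_le
    (hT.trans (le_normalizer_cor N _)) (hT1U1.trans Subgroup.le_normalizer)
  have hDT : D ≤ Subgroup.centralizer (T₁ : Set X) := commute_of_inf_eq_bot
    (hDM.trans (le_normalizer_cor M _)) h1
    (inf_eq_bot_of_isPGroup hpr ((h.opc_isPGroup p N).to_le inf_le_left) (h.opc_isPGroup r M))
  have hT1U2 : T₁ ≤ Subgroup.centralizer (U₂ : Set X) := by
    refine pxq (h.opc_isPGroup p M) ?_ (le_centralizer_symm hT1U1) (h.opc_isPGroup p N)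
      (hU.trans (le_normalizer_cor N _)) (hT.trans (le_normalizer_cor N _)) hDT
    obtain ⟨n, hn⟩ := IsPGroup.iff_card.mp (h.opc_isPGroup r M)
    rw [hn]
    exact ((Nat.coprime_primes (Fact.out : r.Prime) (Fact.out : p.Prime)).mpr hpr.symm).pow_left n
  exact (le_inf (opc_le_syl A G p N) ((le_centralizer_symm hT1U2).trans
    (Subgroup.centralizer_le_normalizer _))).trans
    (h.normal_le hM.1 (opc_le A G r M) (h.opc_inv hM.1.1.inv) hM.2.2 (le_normalizer_cor M _)).1

/-- A mixed `O_r` never lies in a pair with trivial `O_r`. -/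
theorem not_le_pure (h : Hyp A G q) (hpr : p ≠ r) (hdp : p ∣ Nat.card G) {M N : Subgroup X}
    (hM : Mixed A G p r M) (hN : MaxPair A G p r N) (hN0 : opc A G r N = ⊥)
    (hT : opc A G r M ≤ N) : False := by
  obtain ⟨hPN, hNP⟩ := h.pure_spec hpr hdp hN hN0
  set Q := M ⊓ syl A G p with hQ
  set T := opc A G r M
  have hTP : T ≤ Subgroup.normalizer (syl A G p : Set X) := hT.trans hNP
  have h1 : T ≤ Subgroup.normalizer (Q : Set X) := le_normalizer_inf_of_le
    ((opc_le A G r M).trans Subgroup.le_normalizer) hTP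
  have hTQ : T ≤ Subgroup.centralizer (Q : Set X) := commute_of_inf_eq_bot h1
    (inf_le_left.trans (le_normalizer_cor M _))
    (inf_eq_bot_of_isPGroup hpr.symm (h.opc_isPGroup r M) ((h.syl_isPGroup p).to_le inf_le_right))
  have hCQ : syl A G p ⊓ Subgroup.centralizer (Q : Set X) ≤ Q := le_inf
    ((inf_le_inf_left _ ((Subgroup.centralizer_le (cor_le M Q)).trans
      (Subgroup.centralizer_le_normalizer _))).trans
      (h.normal_le hM.1 (opc_le A G p M) (h.opc_inv hM.1.1.inv) hM.2.1 (le_normalizer_cor M _)).1)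
    inf_le_left
  have hTC : T ≤ Subgroup.centralizer (syl A G p : Set X) := fun x hx => by
    refine centralizes_of_selfCentralizing (h.syl_isPGroup p) inf_le_right (hTP hx) (hTQ hx) hCQ ?_
    obtain ⟨n, hn⟩ := IsPGroup.iff_card.mp (h.opc_isPGroup r M)
    exact (((Nat.coprime_primes (Fact.out : r.Prime) (Fact.out : p.Prime)).mpr hpr.symm).pow_left
      n).coprime_dvd_left (hn ▸ Subgroup.orderOf_dvd_natCard T hx)
  refine hM.2.2 (le_bot_iff.mp (hN0 ▸ ?_))
  exact (le_inf (le_inf hT (opc_le_syl A G r M))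
    (hTC.trans (Subgroup.centralizer_le (opc_le_syl A G p N)))).trans
    (h.centralizer_opc_le hpr.symm hN.1.symm)

/-- An invariant `p`-group whose fixed points off `g` lie in `Q` has its commutator with `g` in
`Q`. -/
theorem commutator_line_le (h : Hyp A G q) {P Q : Subgroup X} (hP : P ≤ syl A G p)
    (hPA : A ≤ Subgroup.normalizer (P : Set X)) (hQA : A ≤ Subgroup.normalizer (Q : Set X))
    {g : X} (hg : g ∈ A)
    (hd : ∀ d ∈ A, d ∉ Subgroup.zpowers g → ln P d ≤ Q) : ⁅P, Subgroup.zpowers g⁆ ≤ Q := by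
  haveI := h.pl.isMulCommutative
  set Z := Subgroup.zpowers g with hZ
  have hZA : Z ≤ A := Subgroup.zpowers_le.mpr hg
  set K := ⁅P, Z⁆ with hK
  have hPG : P ≤ G := hP.trans (h.syl_le p)
  have hZP : Z ≤ Subgroup.normalizer (P : Set X) := hZA.trans hPA
  have hKP : K ≤ P := commutator_le_left_of_le_normalizer hZP
  have hAZ : A ≤ Subgroup.normalizer (Z : Set X) := fun a ha =>
    Subgroup.centralizer_le_normalizer _ fun z hz => h.pl.comm z (hZA hz) a ha
  have hKA : A ≤ Subgroup.normalizer (K : Set X) := le_normalizer_commutator hPA hAZ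
  have hKK : ⁅K, Z⁆ = K := commutator_commutator_eq hZP
    ((h.pl.coprime_sub hPG).coprime_dvd_left (Subgroup.card_dvd_of_le hZA))
    (Or.inl (isSolvable_of_isMulCommutative _))
  set L := K ⊓ Q with hL
  have hLA : A ≤ Subgroup.normalizer (L : Set X) := le_normalizer_inf_of_le hKA hQA
  set L' := L ⊔ ⁅K, K⁆ with hL'
  have hL'K : L' ≤ K := sup_le inf_le_left (Subgroup.commutator_le_self K)
  have hKL' : K ≤ Subgroup.normalizer (L' : Set X) := fun k hk =>
    mem_normalizer_of_conj_le fun x hx => by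
      rw [show k * x * k⁻¹ = (k * x * k⁻¹ * x⁻¹) * x by group]
      refine mul_mem (Subgroup.mem_sup_right ?_) hx
      have := Subgroup.commutator_mem_commutator hk (hL'K hx)
      rwa [commutatorElement_def] at this
  have hL'A : A ≤ Subgroup.normalizer (L' : Set X) :=
    le_normalizer_sup_of_le hLA (le_normalizer_commutator hKA hKA)
  have h1 : ⁅Z, K⁆ ≤ L' := by
    refine h.pl.commutator_le_of_ln (hKP.trans hPG) hKA hKL' fun d hd' hd1 => ?_
    refine Subgroup.commutator_le.mpr fun z hz s hs => ?_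
    rw [commutatorElement_def]
    by_cases hdg : d ∈ Z
    · have hgd : g ∈ Subgroup.zpowers d := h.pl.mem_zpowers_symm hg hdg hd1
      have hzd : z ∈ Subgroup.zpowers d := Subgroup.zpowers_le.mpr hgd hz
      obtain ⟨i, rfl⟩ := Subgroup.mem_zpowers_iff.mp hzd
      rw [((show Commute d s from (mem_ln.mp hs).2).zpow_left i).eq, mul_inv_cancel_right,
        mul_inv_cancel]
      exact one_mem _
    · have hsL : s ∈ L' := Subgroup.mem_sup_left
        ⟨(mem_ln.mp hs).1, hd d hd' hdg (ln_mono hKP d hs)⟩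
      exact mul_mem (conj_mem (hL'A (hZA hz)) hsL) (inv_mem hsL)
  rw [Subgroup.commutator_comm, hKK] at h1
  exact (le_of_le_sup_commutator ((h.syl_isPGroup p).to_le (hKP.trans hP)) inf_le_left h1).trans
    inf_le_right

/-- If no mixed pair contains the Sylow `p`-subgroup, there is no mixed pair. -/
theorem no_mixed_of_typeI (h : Hyp A G q) (hpr : p ≠ r) (hdp : p ∣ Nat.card G)
    (hdr : r ∣ Nat.card G) (hno : ¬ Perm A G p r)
    (hI : ∀ M, MaxPair A G p r M → syl A G p ≤ M → opc A G r M = ⊥) :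
    ¬ ∃ M, Mixed A G p r M := by
  rintro ⟨M₀, hM₀⟩
  obtain ⟨W, -, hW⟩ := Finite.exists_le_maximal
    (p := fun W => ∃ M, Mixed A G p r M ∧ M ⊓ syl A G p = W) (a := M₀ ⊓ syl A G p) ⟨M₀, hM₀, rfl⟩
  obtain ⟨M, hM, rfl⟩ := hW.prop
  set P := syl A G p with hP
  set R := syl A G r with hR
  set Q := M ⊓ P with hQ
  set U := opc A G p M with hU
  set T := opc A G r M with hT
  have hQA : A ≤ Subgroup.normalizer (Q : Set X) := le_normalizer_inf_of_le hM.1.1.inv (h.syl_inv p)
  have hPM : ¬ P ≤ M := fun e => hM.2.2 (hI M hM.1 e)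
  have hUQ : U ≤ Q := cor_le M Q
  have hQne : Q ≠ ⊥ := fun e => hM.2.1 (le_bot_iff.mp (e ▸ hUQ))
  set K := G ⊓ Subgroup.normalizer (Q : Set X) with hK
  obtain ⟨X₂, hX₂, hKp, hKr⟩ := h.exists_max_of_sol (p := p) (r := r) (K := K) inf_le_left
    (h.norm_inf hQA) (h.norm_ne (inf_le_left.trans hM.1.1.le) hQA hQne
      (fun e => h.pair_ne hM.1.1 (le_antisymm hM.1.1.le (e ▸ inf_le_left))))
  have hQK : Q ≤ K := le_inf (inf_le_left.trans hM.1.1.le) Subgroup.le_normalizer
  have hX₂0 : opc A G r X₂ = ⊥ := by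
    by_contra hne
    by_cases hU2 : opc A G p X₂ = ⊥
    · exact h.not_le_pure hpr.symm hdr hM.symm hX₂.symm hU2
        ((le_inf (hUQ.trans hQK) (opc_le_syl A G p M)).trans hKp)
    · have h1 : Q ≤ X₂ ⊓ P := le_inf ((le_inf hQK inf_le_right).trans hKp) inf_le_right
      have h2 : X₂ ⊓ P ≤ Q := hW.le_of_ge ⟨X₂, ⟨hX₂, hU2, hne⟩, rfl⟩ h1
      refine hPM ((normalizer_eq_self_imp (h.syl_isPGroup p) inf_le_right ?_).trans inf_le_left)
      exact le_trans (le_inf (le_trans (le_inf (le_inf (inf_le_left.trans (h.syl_le p)) inf_le_right)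
        inf_le_left) hKp) inf_le_left) h2
  obtain ⟨hPX₂, hX₂P⟩ := h.pure_spec hpr hdp hX₂ hX₂0
  have hX₂C : ∀ Y : Subgroup X, Y ≤ X₂ → Y ≤ R → Y ≤ Subgroup.centralizer (P : Set X) → Y = ⊥ :=
    fun Y h1 h2 h3 => le_bot_iff.mp (hX₂0 ▸ (le_inf (le_inf h1 h2)
      (h3.trans (Subgroup.centralizer_le (opc_le_syl A G p X₂)))).trans
      (h.centralizer_opc_le hpr.symm hX₂.1.symm))
  have hCQ : P ⊓ Subgroup.centralizer (Q : Set X) ≤ Q := le_inf
    ((inf_le_inf_left _ ((Subgroup.centralizer_le hUQ).trans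
      (Subgroup.centralizer_le_normalizer _))).trans
      (h.normal_le hM.1 (opc_le A G p M) (h.opc_inv hM.1.1.inv) hM.2.1 (le_normalizer_cor M _)).1)
    inf_le_left
  have hcopR : ∀ x ∈ R, (orderOf x).Coprime p := fun x hx => by
    obtain ⟨n, hn⟩ := IsPGroup.iff_card.mp (h.syl_isPGroup r)
    exact (((Nat.coprime_primes (Fact.out : r.Prime) (Fact.out : p.Prime)).mpr hpr.symm).pow_left
      n).coprime_dvd_left (hn ▸ Subgroup.orderOf_dvd_natCard R hx)
  have hCTQ : T ⊓ Subgroup.centralizer (Q : Set X) = ⊥ := by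
    have h1 : T ⊓ Subgroup.centralizer (Q : Set X) ≤ X₂ := le_trans (le_inf (le_inf
      (inf_le_left.trans ((opc_le A G r M).trans hM.1.1.le))
      (inf_le_right.trans (Subgroup.centralizer_le_normalizer _)))
      (inf_le_left.trans (opc_le_syl A G r M))) hKr
    refine hX₂C _ h1 (inf_le_left.trans (opc_le_syl A G r M)) fun x hx => ?_
    exact centralizes_of_selfCentralizing (h.syl_isPGroup p) inf_le_right (hX₂P (h1 hx)) hx.2 hCQ
      (hcopR x (opc_le_syl A G r M hx.1))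
  set ZT := T ⊓ Subgroup.centralizer (T : Set X) with hZT
  have hTA : A ≤ Subgroup.normalizer (T : Set X) := h.opc_inv hM.1.1.inv
  have hZTA : A ≤ Subgroup.normalizer (ZT : Set X) :=
    le_normalizer_inf_of_le hTA (le_normalizer_centralizer hTA)
  have hZTne : ZT ≠ ⊥ := inf_centralizer_self_ne_bot (h.opc_isPGroup r M) hM.2.2
  have hMZT : M ≤ Subgroup.normalizer (ZT : Set X) := le_normalizer_inf_of_le (le_normalizer_cor M _)
    (le_normalizer_centralizer (le_normalizer_cor M _))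
  obtain ⟨g, hg, hg1, hgn⟩ := h.pl.exists_ln_not_le (inf_le_right.trans (h.syl_le p)) hQA
    (Y := Subgroup.centralizer (ZT : Set X)) fun e =>
      hZTne (le_bot_iff.mp (hCTQ ▸ le_inf inf_le_left (le_centralizer_symm e)))
  have hlnZ : ∀ d ∈ A, d ∉ Subgroup.zpowers g → ln ZT d ≠ ⊥ := fun d hd hdg =>
    h.pl.ln_ne_bot hg hd hg1 hdg ((ln_le Q g).trans (inf_le_right.trans (h.syl_le p)))
      (inf_le_left.trans ((opc_le A G r M).trans hM.1.1.le)) (h.pl.norm_ln hQA hg)
      (fun y hy => (mem_ln.mp hy).2) hZTA ((ln_le Q g).trans (inf_le_left.trans hMZT))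
      (isSolvable_of_le (inf_le_left.trans (opc_le_syl A G r M)) (h.sol_syl r))
      (isPGroup_coprime hpr ((h.syl_isPGroup p).to_le ((ln_le Q g).trans inf_le_right))
        ((h.opc_isPGroup r M).to_le inf_le_left)) hgn
  have hlines : ∀ d ∈ A, d ∉ Subgroup.zpowers g → ln P d ≤ M ∧ ln R d ≤ M := by
    intro d hd hdg
    have hd1 : d ≠ 1 := Pl.ne_one_of_notMem hdg
    set W := ln ZT d with hW'
    have hWG : W ≤ G := (ln_le ZT d).trans (inf_le_left.trans ((opc_le A G r M).trans hM.1.1.le))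
    have hWA : A ≤ Subgroup.normalizer (W : Set X) := h.pl.norm_ln hZTA hd
    obtain ⟨N, hN, hNp, hNr⟩ := h.exists_max_of_sol (p := p) (r := r) inf_le_left (h.cent_inf hWA)
      (h.cent_ne hWG hWA (hlnZ d hd hdg))
    have hWT : W ≤ T := (ln_le ZT d).trans inf_le_left
    have hTN : T ≤ N := le_trans (le_inf (le_inf ((opc_le A G r M).trans hM.1.1.le)
      (le_centralizer_symm ((ln_le ZT d).trans inf_le_right))) (opc_le_syl A G r M)) hNr
    have hUN : U ≤ N := le_trans (le_inf (le_inf ((opc_le A G p M).trans hM.1.1.le)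
      ((h.opc_commute hpr M).trans (Subgroup.centralizer_le hWT))) (opc_le_syl A G p M)) hNp
    have hNM : M = N := by
      by_cases hT2 : opc A G r N = ⊥
      · exact (h.not_le_pure hpr hdp hM hN hT2 hTN).elim
      by_cases hU2 : opc A G p N = ⊥
      · exact (h.not_le_pure hpr.symm hdr hM.symm hN.symm hU2 hUN).elim
      exact h.eq_of_fitting hpr hM ⟨hN, hU2, hT2⟩ hTN hUN
    constructor
    · rw [hNM]
      exact le_trans (le_inf (le_inf ((ln_le P d).trans (h.syl_le p))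
        (h.pl.commute_ln hd hd1 (h.syl_le p) ((inf_le_left.trans (opc_le A G r M)).trans
          hM.1.1.le))) (ln_le P d)) hNp
    · rw [hNM]
      exact le_trans (le_inf (le_inf ((ln_le R d).trans (h.syl_le r))
        (h.pl.commute_ln hd hd1 (h.syl_le r) ((inf_le_left.trans (opc_le A G r M)).trans
          hM.1.1.le))) (ln_le R d)) hNr
  haveI := h.pl.isMulCommutative
  set Kg := ⁅P, Subgroup.zpowers g⁆ with hKg
  have hgA : Subgroup.zpowers g ≤ A := Subgroup.zpowers_le.mpr hg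
  have hKgQ : Kg ≤ Q := h.commutator_line_le le_rfl (h.syl_inv p) hQA hg fun d hd hdg =>
    le_inf (hlines d hd hdg).1 (ln_le P d)
  have hdec : ∀ v ∈ P, ∃ k ∈ Kg, ∃ c ∈ P, g * c = c * g ∧ v = k * c := by
    intro v hv
    have h1 := commutator_sup_centralizer (hgA.trans (h.syl_inv p))
      ((h.pl.coprime_sub (h.syl_le p)).coprime_dvd_left (Subgroup.card_dvd_of_le hgA))
      (Or.inl (isSolvable_of_isMulCommutative _))
    have hv' : v ∈ Kg ⊔ (P ⊓ Subgroup.centralizer ((Subgroup.zpowers g : Subgroup X) : Set X)) :=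
      h1.ge hv
    rw [← SetLike.mem_coe, Subgroup.coe_mul_of_right_le_normalizer_left Kg
      (P ⊓ Subgroup.centralizer ((Subgroup.zpowers g : Subgroup X) : Set X))
      (inf_le_left.trans (le_normalizer_commutator_left P _)), Set.mem_mul] at hv'
    obtain ⟨k, hk, c, hc, e⟩ := hv'
    exact ⟨k, hk, c, hc.1, hc.2 g (Subgroup.mem_zpowers g), e.symm⟩
  have hPQ : P ≤ Subgroup.normalizer (Q : Set X) := by
    intro x hx
    obtain ⟨k₀, hk₀, c₀, hc₀, hgc₀, rfl⟩ := hdec x hx
    refine mul_mem (Subgroup.le_normalizer (hKgQ hk₀)) (mem_normalizer_of_conj_le fun y hy => ?_)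
    obtain ⟨k, hk, c, hc, hgc, rfl⟩ := hdec y hy.2
    have hcc : c₀ * c = c * c₀ :=
      h.pl.ab g hg hg1 c₀ (h.syl_le p hc₀) c (h.syl_le p hc) hgc₀ hgc
    have hcQ : c ∈ Q := by simpa using mul_mem (inv_mem (hKgQ hk)) hy
    rw [show c₀ * (k * c) * c₀⁻¹ = (c₀ * k * c₀⁻¹) * (c₀ * c * c₀⁻¹) by group, hcc,
      mul_inv_cancel_right]
    exact mul_mem (hKgQ (conj_mem (le_normalizer_commutator_left P _ hc₀) hk)) hcQ
  set R' := M ⊓ R with hR'
  set B₀ := R' ⊓ Subgroup.normalizer (Q : Set X) with hB₀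
  have hB₀X : B₀ ≤ X₂ := le_trans (le_inf (le_inf
    ((inf_le_left.trans inf_le_left).trans hM.1.1.le) inf_le_right)
    (inf_le_left.trans inf_le_right)) hKr
  have hB₀A : A ≤ Subgroup.normalizer (B₀ : Set X) := le_normalizer_inf_of_le
    (le_normalizer_inf_of_le hM.1.1.inv (h.syl_inv r)) (hQA.trans Subgroup.le_normalizer)
  have hB₀P : B₀ ≤ Subgroup.normalizer (P : Set X) := hB₀X.trans hX₂P
  have hQB : ⁅Q, B₀⁆ ≤ U := by
    refine Subgroup.commutator_le.mpr fun x hx b hb => ?_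
    rw [commutatorElement_def]
    have hstr := h.structure_pair hpr.symm hM.1.1.symm
    have hmem : x * b * x⁻¹ * b⁻¹ ∈ (M ⊓ R) ⊔ U :=
      mul_mem (conj_mem (hstr hx.1) (Subgroup.mem_sup_left hb.1)) (inv_mem (Subgroup.mem_sup_left hb.1))
    have hQm : x * b * x⁻¹ * b⁻¹ ∈ Q := by
      rw [show x * b * x⁻¹ * b⁻¹ = x * (b * x⁻¹ * b⁻¹) by group]
      exact mul_mem hx (conj_mem hb.2 (inv_mem hx))
    rw [sup_comm, ← SetLike.mem_coe, Subgroup.coe_mul_of_right_le_normalizer_left U (M ⊓ R)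
      (inf_le_left.trans (le_normalizer_cor M _)), Set.mem_mul] at hmem
    obtain ⟨u, hu, ρ, hρ, e⟩ := hmem
    rw [← e]
    have hρQ : ρ ∈ Q := by
      have := mul_mem (inv_mem (hUQ hu)) (e ▸ hQm)
      simpa using this
    have hρ1 : ρ ∈ Q ⊓ (M ⊓ R) := ⟨hρQ, hρ⟩
    rw [inf_eq_bot_of_isPGroup hpr ((h.syl_isPGroup p).to_le inf_le_right)
      ((h.syl_isPGroup r).to_le inf_le_right), Subgroup.mem_bot] at hρ1
    subst hρ1
    rwa [mul_one]
  have hPB : ⁅P, B₀⁆ ≤ Q := by
    refine h.pl.commutator_le_of_ln ((inf_le_left.trans inf_le_left).trans hM.1.1.le) hB₀A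
      inf_le_right fun e he he1 => Subgroup.commutator_le.mpr fun v hv b hb => ?_
    rw [commutatorElement_def]
    have hbB : b ∈ B₀ := (mem_ln.mp hb).1
    by_cases heg : e ∈ Subgroup.zpowers g
    · obtain ⟨k, hk, c, hc, hgc, rfl⟩ := hdec v hv
      have hbG : b ∈ G := hM.1.1.le hbB.1.1
      have hgb : g * b = b * g := by
        obtain ⟨i, hi⟩ := Subgroup.mem_zpowers_iff.mp (h.pl.mem_zpowers_symm hg heg he1)
        rw [← hi]
        exact ((show Commute e b from (mem_ln.mp hb).2).zpow_left i).eq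
      have hcb : c * b = b * c := h.pl.ab g hg hg1 c (h.syl_le p hc) b hbG hgc hgb
      rw [show k * c * b * (k * c)⁻¹ * b⁻¹ = k * (c * b) * c⁻¹ * k⁻¹ * b⁻¹ by group, hcb,
        show k * (b * c) * c⁻¹ * k⁻¹ * b⁻¹ = k * (b * k⁻¹ * b⁻¹) by group]
      exact mul_mem (hKgQ hk) (conj_mem hbB.2 (inv_mem (hKgQ hk)))
    · have hfix : ∀ k ∈ P, g * k * g⁻¹ * k⁻¹ ∈ Q := by
        intro k hk
        obtain ⟨k', hk', c, -, hgc, rfl⟩ := hdec k hk
        rw [show g * (k' * c) * g⁻¹ * (k' * c)⁻¹ = (g * k' * g⁻¹) * (g * c * g⁻¹ * c⁻¹) * k'⁻¹ by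
          group, hgc, mul_inv_cancel_right, mul_inv_cancel, mul_one]
        exact mul_mem (conj_mem (hQA hg) (hKgQ hk')) (inv_mem (hKgQ hk'))
      have h1 := fpf_fixes_mod (h.pl.norm_ln hB₀A he hg) (hQA hg) ((ln_le B₀ e).trans hB₀P)
        ((ln_le B₀ e).trans inf_le_right) hfix (fun y hy e' => h.pl.eq_one_of_two he hg he1
          (h.pl.notMem_symm he hg1 heg) (hM.1.1.le (mem_ln.mp hy).1.1.1) (mem_ln.mp hy).2 e')
        b hb v hv
      rw [show v * b * v⁻¹ * b⁻¹ = (b * v * b⁻¹ * v⁻¹)⁻¹ by group]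
      exact inv_mem h1
  set J := ⁅P, B₀⁆ with hJ
  have hB₀G : B₀ ≤ G := (inf_le_left.trans inf_le_left).trans hM.1.1.le
  have hJU : J ≤ U := by
    rw [hJ, ← commutator_commutator_eq hB₀P (isPGroup_coprime hpr.symm
      ((h.syl_isPGroup r).to_le (inf_le_left.trans inf_le_right)) (h.syl_isPGroup p))
      (Or.inr (h.sol_syl p))]
    exact (Subgroup.commutator_mono hPB le_rfl).trans hQB
  have hR'TB : ∀ x ∈ R', ∃ t ∈ T, t⁻¹ * x ∈ B₀ := by
    intro x hx
    obtain ⟨t, ht, hn⟩ := frattini_pair hpr.symm (h.opc_isPGroup r M)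
      ((h.syl_isPGroup p).to_le (inf_le_right : Q ≤ P)) (inf_le_left.trans (le_normalizer_cor M _))
      ((h.structure_pair hpr hM.1.1) hx.1)
    exact ⟨t, ht, Subgroup.mem_inf.mpr
      ⟨R'.mul_mem (R'.inv_mem ((cor_le _ _ : T ≤ R') ht)) hx, hn⟩⟩
  have hJbot : J = ⊥ := by
    by_contra hJne
    have hJA : A ≤ Subgroup.normalizer (J : Set X) := le_normalizer_commutator (h.syl_inv p) hB₀A
    have hPJ : P ≤ Subgroup.normalizer (J : Set X) := le_normalizer_commutator_left P _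
    have hMJ : M ≤ Subgroup.normalizer (J : Set X) := by
      rw [← h.pair_sup hM.1.1]
      refine sup_le (inf_le_right.trans hPJ) fun x hx => ?_
      obtain ⟨t, ht, hb⟩ := hR'TB x hx
      have h1 : t ∈ Subgroup.normalizer (J : Set X) := Subgroup.centralizer_le_normalizer _
        (Subgroup.centralizer_le hJU (h.opc_commute hpr.symm M ht))
      have h2 : t⁻¹ * x ∈ Subgroup.normalizer (J : Set X) :=
        le_normalizer_commutator hB₀P Subgroup.le_normalizer hb
      simpa using mul_mem h1 h2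
    exact hPM ((le_inf le_rfl hPJ).trans
      (h.normal_le hM.1 (hJU.trans (opc_le A G p M)) hJA hJne hMJ).1)
  have hB₀bot : B₀ = ⊥ := hX₂C _ hB₀X (inf_le_left.trans inf_le_right)
    (le_centralizer_symm (Subgroup.commutator_eq_bot_iff_le_centralizer.mp hJbot))
  have hR'T : R' = T := le_antisymm (fun x hx => by
    obtain ⟨t, ht, hb⟩ := hR'TB x hx
    rw [hB₀bot, Subgroup.mem_bot, inv_mul_eq_one] at hb
    exact hb ▸ ht) (cor_le _ _)
  have hRM : R ≤ M := by
    refine (normalizer_eq_self_imp (h.syl_isPGroup r) (inf_le_right : R' ≤ R) ?_).trans inf_le_left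
    refine le_inf ?_ inf_le_left
    rw [show M ⊓ R = T from hR'T]
    exact (h.normal_le hM.1 (opc_le A G r M) hTA hM.2.2 (le_normalizer_cor M _)).2
  have hTR : T = R := by rw [← hR'T, hR', inf_eq_right.mpr hRM]
  have hRPbot : R ⊓ Subgroup.normalizer (P : Set X) = ⊥ := by
    refine le_bot_iff.mp (hB₀bot ▸ ?_)
    intro x hx
    exact ⟨⟨hRM hx.1, hx.1⟩, le_normalizer_inf_of_le (inf_le_left.trans (hRM.trans Subgroup.le_normalizer))
      inf_le_right hx⟩
  set ZP := P ⊓ Subgroup.centralizer (P : Set X) with hZP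
  have hPA : A ≤ Subgroup.normalizer (P : Set X) := h.syl_inv p
  have hZPA : A ≤ Subgroup.normalizer (ZP : Set X) :=
    le_normalizer_inf_of_le hPA (le_normalizer_centralizer hPA)
  have hZPR : ∀ d ∈ A, d ≠ 1 → ln ZP d ≠ ⊥ → ln R d = ⊥ := by
    intro d hd hd1 hne
    have hWG : ln ZP d ≤ G := (ln_le ZP d).trans (inf_le_left.trans (h.syl_le p))
    have hWA := h.pl.norm_ln hZPA hd
    obtain ⟨N, hN, hNp, hNr⟩ := h.exists_max_of_sol (p := p) (r := r) inf_le_left (h.cent_inf hWA)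
      (h.cent_ne hWG hWA hne)
    have hPN : P ≤ N := le_trans (le_inf (le_inf (h.syl_le p)
      (le_centralizer_symm ((ln_le ZP d).trans inf_le_right))) le_rfl) hNp
    have hNP := (h.pure_spec hpr hdp hN (hI N hN hPN)).2
    refine le_bot_iff.mp (hRPbot ▸ le_inf (ln_le R d) (le_trans ?_ hNP))
    exact le_trans (le_inf (le_inf ((ln_le R d).trans (h.syl_le r))
      (h.pl.commute_ln hd hd1 (h.syl_le r) (inf_le_left.trans (h.syl_le p)))) (ln_le R d)) hNr
  have hRg : ln R g = ⊥ := by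
    refine hZPR g hg hg1 fun e => ?_
    refine inf_centralizer_self_ne_bot (h.syl_isPGroup p) (h.syl_ne_bot hdp) (le_bot_iff.mp ?_)
    refine h.pl.le_of_ln (inf_le_left.trans (h.syl_le p)) hZPA fun d hd hd1 => ?_
    by_cases hdg : d ∈ Subgroup.zpowers g
    · intro x hx
      rw [← e]
      refine mem_ln.mpr ⟨(mem_ln.mp hx).1, ?_⟩
      obtain ⟨i, hi⟩ := Subgroup.mem_zpowers_iff.mp (h.pl.mem_zpowers_symm hg hdg hd1)
      rw [← hi]
      exact ((show Commute d x from (mem_ln.mp hx).2).zpow_left i).eq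
    · refine le_bot_iff.mpr ?_
      by_contra hne
      refine hlnZ d hd hdg (le_bot_iff.mp (hZPR d hd hd1 hne ▸ ln_mono ?_ d))
      exact inf_le_left.trans hTR.le
  have hKgU : Kg ≤ U := by
    refine h.commutator_line_le le_rfl hPA (h.opc_inv hM.1.1.inv) hg fun d hd hdg => ?_
    have hd1 : d ≠ 1 := Pl.ne_one_of_notMem hdg
    have hPd : ln P d ≤ M := (hlines d hd hdg).1
    refine (le_inf (le_inf hPd (ln_le P d)) ?_).trans (h.centralizer_opc_le hpr hM.1.1)
    rw [← hT, hTR]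
    refine h.pl.weight hd hg hd1 (h.pl.notMem_symm hd hg1 hdg)
      ((ln_le P d).trans (h.syl_le p)) (h.syl_le r) (h.pl.norm_ln hPA hd)
      (fun y hy => (mem_ln.mp hy).2) (h.syl_inv r) (hPd.trans ?_) (h.sol_syl r)
      (isPGroup_coprime hpr ((h.syl_isPGroup p).to_le (ln_le P d)) (h.syl_isPGroup r))
      (hRg ▸ bot_le)
    rw [← hTR]
    exact le_normalizer_cor M _
  by_cases hKgne : Kg = ⊥
  · obtain ⟨c, hc, -, hcg, hne⟩ := h.not_single_line hdp hg hg1
    refine hne ((Subgroup.eq_bot_iff_forall _).mpr fun x hx => ?_)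
    have hgx : x * g = g * x := by
      have h1 := Subgroup.commutator_eq_bot_iff_le_centralizer.mp hKgne (mem_ln.mp hx).1 g
        (Subgroup.mem_zpowers g)
      exact h1.symm
    exact h.pl.eq_one_of_two hg hc hg1 hcg (h.syl_le p (mem_ln.mp hx).1) hgx.symm (mem_ln.mp hx).2
  have hKgA : A ≤ Subgroup.normalizer (Kg : Set X) := le_normalizer_commutator hPA fun a ha =>
    Subgroup.centralizer_le_normalizer _ fun z hz => h.pl.comm z (hgA hz) a ha
  have hPK : P ≤ Subgroup.normalizer (Kg : Set X) := le_normalizer_commutator_left P _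
  have hMK : M ≤ Subgroup.normalizer (Kg : Set X) := by
    rw [← h.pair_sup hM.1.1]
    refine sup_le (inf_le_right.trans hPK) (inf_le_right.trans ?_)
    rw [← hR, ← hTR]
    exact ((h.opc_commute hpr.symm M).trans (Subgroup.centralizer_le hKgU)).trans
      (Subgroup.centralizer_le_normalizer _)
  exact hPM ((le_inf le_rfl hPK).trans
    (h.normal_le hM.1 (hKgU.trans (opc_le A G p M)) hKgA hKgne hMK).1)

theorem side (h : Hyp A G q) (hpr : p ≠ r) (hdp : p ∣ Nat.card G) (hdr : r ∣ Nat.card G)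
    (hno : ¬ Perm A G p r)
    (hpure : ∀ M, MaxPair A G p r M → opc A G r M = ⊥ ∨ opc A G p M = ⊥) :
    syl A G r ⊓ Subgroup.normalizer (syl A G p : Set X) = ⊥ := by
  by_contra hBne
  set P := syl A G p with hP
  set R := syl A G r with hR
  set B := R ⊓ Subgroup.normalizer (P : Set X) with hB
  set D := P ⊓ Subgroup.normalizer (R : Set X) with hD
  obtain ⟨Xp, hXp, hPXp⟩ := h.exists_max (h.syl_pair p r)
  have hXp0 : opc A G r Xp = ⊥ := (hpure Xp hXp).resolve_right fun e =>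
    hno ⟨Xp, hXp.1, hPXp, (h.pure_spec hpr.symm hdr hXp.symm e).1⟩
  obtain ⟨Xr, hXr, hRXr⟩ := h.exists_max (h.syl_pair r p).symm
  have hXr0 : opc A G p Xr = ⊥ := (hpure Xr hXr).resolve_left fun e =>
    hno ⟨Xr, hXr.1, (h.pure_spec hpr hdp hXr e).1, hRXr⟩
  have hXpP := (h.pure_spec hpr hdp hXp hXp0).2
  have hXrR := (h.pure_spec hpr.symm hdr hXr.symm hXr0).2
  have hBX : B ≤ Xp := (h.normal_le hXp hPXp (h.syl_inv p) (h.syl_ne_bot hdp) hXpP).2
  have hDX : D ≤ Xr := (h.normal_le hXr hRXr (h.syl_inv r) (h.syl_ne_bot hdr) hXrR).1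
  have hBC : B ⊓ Subgroup.centralizer (P : Set X) = ⊥ := le_bot_iff.mp (hXp0 ▸
    (le_inf (le_inf (inf_le_left.trans hBX) (inf_le_left.trans inf_le_left))
      (inf_le_right.trans (Subgroup.centralizer_le (opc_le_syl A G p Xp)))).trans
      (h.centralizer_opc_le hpr.symm hXp.1.symm))
  have hDB : D ≤ Subgroup.centralizer (B : Set X) := by
    refine commute_of_inf_eq_bot ?_ ?_ (inf_eq_bot_of_isPGroup hpr
      ((h.syl_isPGroup p).to_le inf_le_left) ((h.syl_isPGroup r).to_le inf_le_left))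
    · exact le_normalizer_inf_of_le inf_le_right
        ((inf_le_left.trans Subgroup.le_normalizer).trans Subgroup.le_normalizer)
    · exact le_normalizer_inf_of_le inf_le_right
        ((inf_le_left.trans Subgroup.le_normalizer).trans Subgroup.le_normalizer)
  have hBA : A ≤ Subgroup.normalizer (B : Set X) :=
    le_normalizer_inf_of_le (h.syl_inv r) ((h.syl_inv p).trans Subgroup.le_normalizer)
  have hor : ∀ c ∈ A, c ≠ 1 → ln R c ≤ B ∨ ln P c ≤ D := by
    intro c hc hc1
    rcases eq_or_ne (ln P c) ⊥ with e | hne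
    · exact Or.inr (e ▸ bot_le)
    have hWA := h.pl.norm_ln (h.syl_inv p) hc
    have hWG : ln P c ≤ G := (ln_le P c).trans (h.syl_le p)
    obtain ⟨N, hN, hNp, hNr⟩ := h.exists_max_of_sol (p := p) (r := r) inf_le_left (h.cent_inf hWA)
      (h.cent_ne hWG hWA hne)
    rcases hpure N hN with e | e
    · refine Or.inl (le_inf (ln_le R c) (le_trans ?_ (h.pure_spec hpr hdp hN e).2))
      exact le_trans (le_inf (le_inf ((ln_le R c).trans (h.syl_le r))
        (h.pl.commute_ln hc hc1 (h.syl_le r) (h.syl_le p))) (ln_le R c)) hNr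
    · refine Or.inr (le_inf (ln_le P c) (le_trans ?_ (h.pure_spec hpr.symm hdr hN.symm e).2))
      exact le_trans (le_inf (le_inf ((ln_le P c).trans (h.syl_le p))
        (h.pl.commute_ln hc hc1 (h.syl_le p) (h.syl_le p))) (ln_le P c)) hNp
  have key : ∀ a ∈ A, a ≠ 1 → ln B a ≠ ⊥ → ∀ c ∈ A, c ∉ Subgroup.zpowers a → ln R c ≤ B := by
    intro a ha ha1 hne c hc hca
    refine (hor c hc (Pl.ne_one_of_notMem hca)).resolve_right fun hPc => hne ?_
    have hw := h.pl.weight ha hc ha1 hca ((ln_le B a).trans (inf_le_left.trans (h.syl_le r)))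
      (h.syl_le p) (h.pl.norm_ln hBA ha) (fun y hy => (mem_ln.mp hy).2) (h.syl_inv p)
      ((ln_le B a).trans inf_le_right) (h.sol_syl p)
      (isPGroup_coprime hpr.symm ((h.syl_isPGroup r).to_le ((ln_le B a).trans inf_le_left))
        (h.syl_isPGroup p))
      ((hPc.trans hDB).trans (Subgroup.centralizer_le (ln_le B a)))
    exact le_bot_iff.mp (hBC ▸ le_inf (ln_le B a) hw)
  obtain ⟨a, ha, ha1, hna⟩ := h.pl.exists_ln_not_le (inf_le_left.trans (h.syl_le r)) hBA
    (Y := ⊥) fun e => hBne (le_bot_iff.mp e)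
  have hna' : ln B a ≠ ⊥ := fun e => hna e.le
  obtain ⟨e, he, he1, hea, hne⟩ := h.not_single_line hdr ha ha1
  have hBe : ln B e ≠ ⊥ := fun e' => hne (le_bot_iff.mp (e' ▸
    fun x hx => mem_ln.mpr ⟨key a ha ha1 hna' e he hea hx, (mem_ln.mp hx).2⟩))
  refine hno ⟨Xp, hXp.1, hPXp, ?_⟩
  refine (h.pl.le_of_ln (h.syl_le r) (h.syl_inv r) fun c hc hc1 => ?_).trans hBX
  by_cases hca : c ∈ Subgroup.zpowers a
  · refine key e he he1 hBe c hc fun hce => hea ?_
    exact Subgroup.zpowers_le.mpr hca (h.pl.mem_zpowers_symm he hce hc1)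
  · exact key a ha ha1 hna' c hc hca

theorem perm_of_odd (h : Hyp A G q) (hpr : p ≠ r) (hdp : p ∣ Nat.card G) (hdr : r ∣ Nat.card G)
    (hp2 : p ≠ 2) : Perm A G p r := by
  by_contra hno
  have hno' : ¬ Perm A G r p := fun e => hno e.symm
  have hnm : ¬ ∃ M, Mixed A G p r M := by
    by_cases hI : ∀ M, MaxPair A G p r M → syl A G p ≤ M → opc A G r M = ⊥
    · exact h.no_mixed_of_typeI hpr hdp hdr hno hI
    · intro hex
      refine h.no_mixed_of_typeI hpr.symm hdr hdp hno' (fun N hN hRN => ?_)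
        (hex.imp fun M hM => hM.symm)
      push Not at hI
      obtain ⟨M, hM, hPM, hTM⟩ := hI
      by_contra hUN
      have hUM : opc A G p M ≠ ⊥ := fun e =>
        hno ⟨M, hM.1, hPM, (h.pure_spec hpr.symm hdr hM.symm e).1⟩
      have hTN : opc A G r N ≠ ⊥ := fun e =>
        hno ⟨N, hN.1.symm, (h.pure_spec hpr hdp hN.symm e).1, hRN⟩
      have := h.eq_of_cores hpr ⟨hM, hUM, hTM⟩ ⟨hN.symm, hUN, hTN⟩
        ((opc_le_syl A G r M).trans hRN) ((opc_le_syl A G p N).trans hPM)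
      exact hno ⟨M, hM.1, hPM, this ▸ hRN⟩
  have hpure : ∀ M, MaxPair A G p r M → opc A G r M = ⊥ ∨ opc A G p M = ⊥ := fun M hM => by
    by_contra hne
    push Not at hne
    exact hnm ⟨M, hM, hne.2, hne.1⟩
  have hB := h.side hpr hdp hdr hno hpure
  have hD := h.side hpr.symm hdr hdp hno' fun M hM => (hpure M hM.symm).symm
  obtain ⟨a, ha, ha1, hlines⟩ := h.exists_line hp2 hdp
  obtain ⟨c, hc, hc1, hca, hRc⟩ := h.not_single_line hdr ha ha1
  have hWA := h.pl.norm_ln (h.syl_inv p) hc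
  have hWG : ln (syl A G p) c ≤ G := (ln_le _ c).trans (h.syl_le p)
  obtain ⟨N, hN, hNp, hNr⟩ := h.exists_max_of_sol (p := p) (r := r) inf_le_left (h.cent_inf hWA)
    (h.cent_ne hWG hWA (hlines c hc hca))
  have h1 : ln (syl A G p) c ≤ N := le_trans (le_inf (le_inf hWG
    (h.pl.commute_ln hc hc1 (h.syl_le p) (h.syl_le p))) (ln_le _ c)) hNp
  have h2 : ln (syl A G r) c ≤ N := le_trans (le_inf (le_inf ((ln_le _ c).trans (h.syl_le r))
    (h.pl.commute_ln hc hc1 (h.syl_le r) (h.syl_le p))) (ln_le _ c)) hNr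
  rcases hpure N hN with e | e
  · exact hRc (le_bot_iff.mp (hB ▸ le_inf (ln_le _ c) (h2.trans (h.pure_spec hpr hdp hN e).2)))
  · exact hlines c hc hca (le_bot_iff.mp (hD ▸
      le_inf (ln_le _ c) (h1.trans (h.pure_spec hpr.symm hdr hN.symm e).2)))

theorem perm (h : Hyp A G q) (hpr : p ≠ r) (hdp : p ∣ Nat.card G) (hdr : r ∣ Nat.card G) :
    Perm A G p r := by
  rcases eq_or_ne p 2 with rfl | hp2
  · exact (h.perm_of_odd hpr.symm hdr hdp hpr.symm).symm
  · exact h.perm_of_odd hpr hdp hdr hp2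

end Hyp

end CfsgLib.CoprimePlane
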