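import Cfsg.Agent.Lib.CoprimePlane.Basic
import Cfsg.Agent.Lib.Coprime.CommutatorFixed

/-!
Invariant Sylow subgroups in the setting `Pl`, the largest normal subgroup inside a given one, and
images of the setting.
-/

set_option autoImplicit false
set_option linter.style.haveILetI false
set_option linter.unusedSectionVars false

open scoped commutatorElement

namespace CfsgLib.CoprimePlane

open CfsgLib.Coprime

variable {X : Type*} [Group X] {A H : Subgroup X} {q : ℕ}

/-- An `A`-invariant Sylow `p`-subgroup of `K`. -/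
def InvSyl (A : Subgroup X) (p : ℕ) (K Q : Subgroup X) : Prop :=
  Q ≤ K ∧ A ≤ Subgroup.normalizer (Q : Set X) ∧ IsPGroup p Q ∧ ¬ p ∣ Q.relIndex K

theorem Pl.exists_invSyl [Finite X] (h : Pl A H q) {K : Subgroup X} (hK : K ≤ H)
    (hKA : A ≤ Subgroup.normalizer (K : Set X)) (p : ℕ) [Fact p.Prime] :
    ∃ Q, InvSyl A p K Q := by
  haveI := h.isMulCommutative
  obtain ⟨P, hP⟩ := exists_invariant_sylow hKA (h.coprime_sub hK)
    (Or.inl (isSolvable_of_isMulCommutative A)) p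
  refine ⟨(P : Subgroup K).map K.subtype, Subgroup.map_subtype_le _, hP, P.2.map _, ?_⟩
  have := P.not_dvd_index
  rwa [← Subgroup.relIndex_top_right, ← Subgroup.relIndex_map_map_of_injective _ _ K.subtype_injective,
    ← MonoidHom.range_eq_map, Subgroup.range_subtype] at this

theorem Pl.invSyl_le [Finite X] (h : Pl A H q) {K Q U : Subgroup X} (hK : K ≤ H)
    (hKA : A ≤ Subgroup.normalizer (K : Set X)) {p : ℕ} [hp : Fact p.Prime] (hQ : InvSyl A p K Q)
    (hUK : U ≤ K) (hU : IsPGroup p U) (hUA : A ≤ Subgroup.normalizer (U : Set X)) : U ≤ Q := by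
  haveI := h.isMulCommutative
  have hs : Group.IsSolvable A ∨ Group.IsSolvable K := Or.inl (isSolvable_of_isMulCommutative A)
  obtain ⟨P, hUP, hP⟩ := exists_invariant_sylow_ge hKA (h.coprime_sub hK) hs hUK hU hUA
  obtain ⟨hQK, hQA, hQp, hQi⟩ := hQ
  obtain ⟨P', hQP', hP'⟩ := exists_invariant_sylow_ge hKA (h.coprime_sub hK) hs hQK hQp hQA
  obtain ⟨c, hc, hcP⟩ := invariant_sylow_conj hKA (h.coprime_sub hK) hs P P' hP hP'
  have hc1 : c = 1 := Subtype.ext (h.fix _ (hK c.2) fun a ha => (hc a ha))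
  rw [hc1, one_smul] at hcP
  subst hcP
  refine hUP.trans (le_of_eq (Subgroup.eq_of_le_of_card_ge hQP' ?_).symm)
  have h1 := Subgroup.relIndex_mul_relIndex Q _ K hQP' (Subgroup.map_subtype_le (P : Subgroup K))
  obtain ⟨n, hn⟩ := IsPGroup.iff_card.mp ((P.2.map K.subtype))
  have h2 : Q.relIndex ((P : Subgroup K).map K.subtype) ∣ p ^ n :=
    hn ▸ Subgroup.relIndex_dvd_card _ _
  obtain ⟨j, -, hj⟩ := (Nat.dvd_prime_pow hp.out).mp h2
  rcases j with _ | j
  · exact Subgroup.card_le_of_le (Subgroup.relIndex_eq_one.mp (by rw [hj, pow_zero]))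
  · exact absurd (h1 ▸ Dvd.dvd.mul_right (hj ▸ dvd_pow_self p (Nat.succ_ne_zero j)) _) hQi

theorem Pl.invSyl_unique [Finite X] (h : Pl A H q) {K Q Q' : Subgroup X} (hK : K ≤ H)
    (hKA : A ≤ Subgroup.normalizer (K : Set X)) {p : ℕ} [Fact p.Prime] (hQ : InvSyl A p K Q)
    (hQ' : InvSyl A p K Q') : Q = Q' :=
  le_antisymm (h.invSyl_le hK hKA hQ' hQ.1 hQ.2.2.1 hQ.2.1)
    (h.invSyl_le hK hKA hQ hQ'.1 hQ'.2.2.1 hQ'.2.1)

/-- Every prime dividing `|K|` is `p` or `r`. -/
def IsTwo (p r : ℕ) (K : Subgroup X) : Prop :=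
  ∀ s : ℕ, s.Prime → s ∣ Nat.card K → s = p ∨ s = r

theorem IsTwo.symm {p r : ℕ} {K : Subgroup X} (h : IsTwo p r K) : IsTwo r p K :=
  fun s hs hd => (h s hs hd).symm

theorem IsTwo.mono [Finite X] {p r : ℕ} {K L : Subgroup X} (h : IsTwo p r K) (hL : L ≤ K) :
    IsTwo p r L := fun s hs hd => h s hs (hd.trans (Subgroup.card_dvd_of_le hL))

theorem card_invSyl [Finite X] {p : ℕ} [hp : Fact p.Prime] {K Q : Subgroup X} (hQ : InvSyl A p K Q) :
    Nat.card Q = p ^ (Nat.card K).factorization p := by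
  obtain ⟨hQK, -, hQp, hQi⟩ := hQ
  obtain ⟨n, hn⟩ := IsPGroup.iff_card.mp hQp
  have h1 : Q.relIndex K * Nat.card Q = Nat.card K := by
    have h2 := relIndex_mul_card_inf Q K
    rwa [inf_eq_left.mpr hQK] at h2
  have h0 : Q.relIndex K ≠ 0 := fun e => by simp [e] at h1; exact Nat.card_pos.ne' h1.symm
  rw [← h1, hn, Nat.factorization_mul h0 (pow_ne_zero _ hp.out.ne_zero), Finsupp.add_apply,
    Nat.factorization_eq_zero_of_not_dvd hQi, Nat.factorization_pow, Finsupp.smul_apply,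
    hp.out.factorization_self, zero_add, smul_eq_mul, mul_one]

theorem sup_invSyl_eq [Finite X] {p r : ℕ} [hp : Fact p.Prime] [hr : Fact r.Prime] {K Q R : Subgroup X}
    (hQ : InvSyl A p K Q) (hR : InvSyl A r K R) (h2 : IsTwo p r K) : Q ⊔ R = K := by
  refine Subgroup.eq_of_le_of_card_ge (sup_le hQ.1 hR.1) (Nat.le_of_dvd Nat.card_pos ?_)
  rw [← Nat.factorization_le_iff_dvd Nat.card_pos.ne' Nat.card_pos.ne']
  intro s
  by_cases hsd : s.Prime ∧ s ∣ Nat.card K
  swap
  · rw [Nat.factorization_eq_zero_iff _ s |>.mpr (by tauto)]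
    exact Nat.zero_le _
  obtain ⟨hs, hsd⟩ := hsd
  rw [← hs.pow_dvd_iff_le_factorization Nat.card_pos.ne']
  rcases h2 s hs hsd with rfl | rfl
  · rw [← card_invSyl hQ]
    exact Subgroup.card_dvd_of_le le_sup_left
  · rw [← card_invSyl hR]
    exact Subgroup.card_dvd_of_le le_sup_right

theorem le_sylow_of_normal [Finite X] {p : ℕ} [Fact p.Prime] {K Q W : Subgroup X}
    (hQ : InvSyl A p K Q) (hWK : W ≤ K) (hn : K ≤ Subgroup.normalizer (W : Set X))
    (hW : IsPGroup p W) : W ≤ Q := by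
  have h1 : IsPGroup p ↥(Q ⊔ W) := hQ.2.2.1.to_sup_of_normal_right' hW (hQ.1.trans hn)
  have h2 : Q ⊔ W = Q := by
    obtain ⟨n, hn'⟩ := IsPGroup.iff_card.mp h1
    have h3 : Q.relIndex (Q ⊔ W) ∣ p ^ n := hn' ▸ Subgroup.relIndex_dvd_card _ _
    have h4 := Subgroup.relIndex_mul_relIndex Q (Q ⊔ W) K le_sup_left (sup_le hQ.1 hWK)
    obtain ⟨j, -, hj⟩ := (Nat.dvd_prime_pow (Fact.out : p.Prime)).mp h3
    rcases j with _ | j
    · exact le_antisymm (Subgroup.relIndex_eq_one.mp (by rw [hj, pow_zero])) le_sup_left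
    · exact absurd (h4 ▸ Dvd.dvd.mul_right (hj ▸ dvd_pow_self p (Nat.succ_ne_zero j)) _) hQ.2.2.2
  exact h2 ▸ le_sup_right

/-- The largest subgroup of `Q` normalized by `M`. -/
def cor (M Q : Subgroup X) : Subgroup X :=
  ⨆ W : {W : Subgroup X // W ≤ Q ∧ M ≤ Subgroup.normalizer (W : Set X)}, (W : Subgroup X)

theorem cor_le (M Q : Subgroup X) : cor M Q ≤ Q := iSup_le fun W => W.2.1

theorem le_normalizer_cor [Finite X] (M Q : Subgroup X) : M ≤ Subgroup.normalizer (cor M Q : Set X) :=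
  CommutatorFixed.le_normalizer_iSup _ fun W => W.2.2

theorem le_cor {M Q W : Subgroup X} (hW : W ≤ Q) (hn : M ≤ Subgroup.normalizer (W : Set X)) :
    W ≤ cor M Q :=
  le_iSup (fun W : {W : Subgroup X // W ≤ Q ∧ M ≤ Subgroup.normalizer (W : Set X)} =>
    (W : Subgroup X)) ⟨W, hW, hn⟩

theorem cor_invariant [Finite X] {M Q : Subgroup X} (hM : A ≤ Subgroup.normalizer (M : Set X))
    (hQ : A ≤ Subgroup.normalizer (Q : Set X)) : A ≤ Subgroup.normalizer (cor M Q : Set X) := by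
  intro a ha
  refine mem_normalizer_of_conj_le fun x hx => ?_
  refine le_cor (W := (cor M Q).map (MulAut.conj a).toMonoidHom) ?_ ?_ ⟨x, hx, rfl⟩
  · rintro _ ⟨y, hy, rfl⟩
    exact conj_mem (hQ ha) (cor_le M Q hy)
  · intro m hm
    refine mem_normalizer_of_conj_le ?_
    rintro _ ⟨y, hy, rfl⟩
    refine ⟨(a⁻¹ * m * a) * y * (a⁻¹ * m * a)⁻¹,
      conj_mem (le_normalizer_cor M Q (conj_inv_mem (hM ha) hm)) hy, ?_⟩
    simp [mul_assoc]

/-! ### Images -/

theorem Pl.subgroupOf [Finite X] (h : Pl A H q) {Z : Subgroup X} (hA : A ≤ Z) (hH : H ≤ Z) :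
    Pl (A.subgroupOf Z) (H.subgroupOf Z) q where
  hq := h.hq
  comm a ha b hb := Subtype.ext (h.comm a ha b hb)
  card := by rw [Nat.card_congr (Subgroup.subgroupOfEquivOfLe hA).toEquiv, h.card]
  exp a ha := Subtype.ext (by simpa using h.exp a ha)
  norm a ha := mem_normalizer_of_conj_le fun x hx => by
    simp only [Subgroup.mem_subgroupOf] at hx ⊢
    simpa using conj_mem (h.norm ha) hx
  cop := by rw [Nat.card_congr (Subgroup.subgroupOfEquivOfLe hH).toEquiv]; exact h.cop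
  fix x hx hfix := Subtype.ext (h.fix x hx fun a ha =>
    congrArg Subtype.val (hfix ⟨a, hA ha⟩ ha))
  ab a ha ha1 x hx y hy hax hay := Subtype.ext (h.ab a ha (fun e => ha1 (Subtype.ext e)) x hx y hy
    (congrArg Subtype.val hax) (congrArg Subtype.val hay))

theorem Pl.map [Finite X] (h : Pl A H q) {X' : Type*} [Group X'] [Finite X'] (f : X →* X')
    (hker : f.ker ⊓ A = ⊥) : Pl (A.map f) (H.map f) q where
  hq := h.hq
  comm := by
    rintro _ ⟨a, ha, rfl⟩ _ ⟨b, hb, rfl⟩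
    rw [← map_mul, h.comm a ha b hb, map_mul]
  card := by
    have h1 := (f.comp A.subtype).ker.card_eq_card_quotient_mul_card_subgroup
    have h2 : (f.comp A.subtype).ker = ⊥ := by
      rw [Subgroup.eq_bot_iff_forall]
      intro a ha
      have h3 : (a : X) ∈ f.ker ⊓ A := ⟨ha, a.2⟩
      rw [hker, Subgroup.mem_bot] at h3
      exact Subtype.ext h3
    have h4 : (f.comp A.subtype).range = A.map f := by
      rw [MonoidHom.range_comp, Subgroup.range_subtype]
    rw [← h.card, ← h4]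
    exact (Nat.card_congr (MonoidHom.ofInjective ((MonoidHom.ker_eq_bot_iff _).mp h2)).toEquiv).symm
  exp := by
    rintro _ ⟨a, ha, rfl⟩
    rw [← map_pow, h.exp a ha, map_one]
  norm := (Subgroup.map_mono h.norm).trans (Subgroup.le_normalizer_map f)
  cop := h.cop.coprime_dvd_left (Subgroup.card_map_dvd H f)
  fix := by
    haveI := h.isMulCommutative
    intro x hx hfix
    have h1 := map_inf_centralizer h.norm h.coprimeA
      (Or.inl (isSolvable_of_isMulCommutative A)) f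
    have h2 : x ∈ H.map f ⊓ Subgroup.centralizer ((A.map f : Subgroup X') : Set X') :=
      ⟨hx, fun a ha => hfix a ha⟩
    rw [← h1] at h2
    obtain ⟨y, hy, rfl⟩ := h2
    rw [h.fix y hy.1 fun a ha => hy.2 a ha, map_one]
  ab := by
    rintro _ ⟨a, ha, rfl⟩ ha1 x hx y hy hax hay
    haveI := h.isMulCommutative
    have hza : Subgroup.zpowers a ≤ A := Subgroup.zpowers_le.mpr ha
    have h1 := map_inf_centralizer (hza.trans h.norm)
      (h.coprimeA.coprime_dvd_left (Subgroup.card_dvd_of_le hza))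
      (Or.inl (isSolvable_of_isMulCommutative _)) f (K := H)
    have hmem : ∀ z ∈ H.map f, f a * z = z * f a →
        z ∈ (H ⊓ Subgroup.centralizer ((Subgroup.zpowers a : Subgroup X) : Set X)).map f := by
      intro z hz e
      rw [h1]
      refine ⟨hz, ?_⟩
      rintro _ ⟨g, hg, rfl⟩
      obtain ⟨i, rfl⟩ := Subgroup.mem_zpowers_iff.mp hg
      rw [map_zpow]
      exact (show Commute (f a) z from e).zpow_left i
    obtain ⟨u, hu, rfl⟩ := hmem x hx hax
    obtain ⟨v, hv, rfl⟩ := hmem y hy hay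
    rw [← map_mul, ← map_mul, h.ab a ha (fun e => ha1 (by rw [e, map_one])) u hu.1 v hv.1
      (hu.2 a (Subgroup.mem_zpowers a)) (hv.2 a (Subgroup.mem_zpowers a))]

theorem InvSyl.map [Finite X] {p : ℕ} [Fact p.Prime] {K Q : Subgroup X} (hQ : InvSyl A p K Q)
    {X' : Type*} [Group X'] (f : X →* X') (hker : f.ker ≤ K) :
    InvSyl (A.map f) p (K.map f) (Q.map f) := by
  refine ⟨Subgroup.map_mono hQ.1, (Subgroup.map_mono hQ.2.1).trans (Subgroup.le_normalizer_map f),
    hQ.2.2.1.map f, fun hd => hQ.2.2.2 (hd.trans ?_)⟩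
  rw [Subgroup.relIndex_map_map, sup_eq_left.mpr hker]
  exact Subgroup.relIndex_dvd_of_le_left _ le_sup_left

theorem IsTwo.map [Finite X] {p r : ℕ} {K : Subgroup X} (hK : IsTwo p r K)
    {X' : Type*} [Group X'] (f : X →* X') : IsTwo p r (K.map f) :=
  fun s hs hd => hK s hs (hd.trans (Subgroup.card_map_dvd K f))

theorem InvSyl.subgroupOf [Finite X] {p : ℕ} [Fact p.Prime] {K Q Z : Subgroup X}
    (hQ : InvSyl A p K Q) (hA : A ≤ Z) (hK : K ≤ Z) :
    InvSyl (A.subgroupOf Z) p (K.subgroupOf Z) (Q.subgroupOf Z) := by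
  refine ⟨fun x hx => hQ.1 hx, fun a ha => mem_normalizer_of_conj_le fun x hx => ?_,
    hQ.2.2.1.comap_of_injective Z.subtype Z.subtype_injective, ?_⟩
  · simp only [Subgroup.mem_subgroupOf] at hx ⊢
    simpa using conj_mem (hQ.2.1 ha) hx
  · have := hQ.2.2.2
    rwa [← Subgroup.map_subgroupOf_eq_of_le (hQ.1.trans hK), ← Subgroup.map_subgroupOf_eq_of_le hK,
      Subgroup.relIndex_map_map_of_injective _ _ Z.subtype_injective] at this

end CfsgLib.CoprimePlane
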