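import Cfsg.Agent.Lib.CoprimePlane.Faithful
import Cfsg.Agent.Lib.CoprimePlane.Sylow
import Cfsg.Agent.Lib.PSolvable.Omega

/-!
Solvable invariant groups of order `p ^ i * r ^ j`: the product of the invariant Sylow `p`-subgroup
with the largest normal `r`-subgroup is normal.
-/

set_option autoImplicit false
set_option linter.style.haveILetI false
set_option linter.unusedSectionVars false

open scoped commutatorElement Pointwise

namespace CfsgLib.CoprimePlane

open CfsgLib.Coprime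

universe u

variable {X : Type u} [Group X] {A H : Subgroup X} {q : ℕ}

theorem le_of_le_sup_commutator [Finite X] {p : ℕ} [Fact p.Prime] {P L : Subgroup X}
    (hP : IsPGroup p P) (hLP : L ≤ P) (h : P ≤ L ⊔ ⁅P, P⁆) : P ≤ L := by
  have h1 : L.subgroupOf P ⊔ frattini P = ⊤ := by
    rw [eq_top_iff]
    refine le_trans ?_ (sup_le_sup_left (PSolvable.commutator_le_frattini hP).1 _)
    intro x _
    have h2 : (P.subtype x) ∈ (L.subgroupOf P ⊔ commutator P).map P.subtype := by
      rw [Subgroup.map_sup, Subgroup.map_subgroupOf_eq_of_le hLP, Subgroup.map_subtype_commutator]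
      exact h x.2
    obtain ⟨y, hy, e⟩ := h2
    rwa [P.subtype_injective e] at hy
  exact Subgroup.subgroupOf_eq_top.mp (frattini_nongenerating h1)

/-- For `U` a `p`-group and `R` an `r`-group with `R ⊔ U` normal in `K`, so is `C_R(U)`. -/
theorem le_normalizer_centralizer_inf [Finite X] {p r : ℕ} [hp : Fact p.Prime] [Fact r.Prime]
    (hpr : p ≠ r) {K U R : Subgroup X} (hU : IsPGroup p U) (hR : IsPGroup r R)
    (hKU : K ≤ Subgroup.normalizer (U : Set X))
    (hKRU : K ≤ Subgroup.normalizer ((R ⊔ U : Subgroup X) : Set X))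
    (hRU : R ≤ Subgroup.normalizer (U : Set X)) :
    K ≤ Subgroup.normalizer ((R ⊓ Subgroup.centralizer (U : Set X) : Subgroup X) : Set X) := by
  intro k hk
  refine mem_normalizer_of_conj_le fun x hx => ?_
  obtain ⟨hxR, hxC⟩ := hx
  set y := k * x * k⁻¹ with hy
  have hyC : y ∈ Subgroup.centralizer (U : Set X) := conj_mem (le_normalizer_centralizer hKU hk) hxC
  have hy' : y ∈ R ⊔ U := conj_mem (hKRU hk) (Subgroup.mem_sup_left hxR)
  rw [← SetLike.mem_coe, Subgroup.coe_mul_of_left_le_normalizer_right R U hRU, Set.mem_mul] at hy'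
  obtain ⟨ρ, hρ, u, hu, e⟩ := hy'
  obtain ⟨m, hm⟩ := IsPGroup.iff_card.mp hR
  have hm' : ∀ z ∈ R, z ^ r ^ m = 1 := fun z hz =>
    orderOf_dvd_iff_pow_eq_one.mp (hm ▸ Subgroup.orderOf_dvd_natCard R hz)
  have hcomm : Commute ρ u := by
    have h1 : u * y = y * u := hyC u hu
    rw [← e] at h1
    show ρ * u = u * ρ
    rw [← mul_assoc, mul_left_inj] at h1
    exact h1.symm
  have hym : y ^ r ^ m = 1 := by rw [hy, conj_pow, hm' x hxR]; simp
  rw [← e, hcomm.mul_pow, hm' ρ hρ, one_mul] at hym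
  have hu1 : u = 1 := by
    obtain ⟨j, hj⟩ := IsPGroup.iff_card.mp hU
    have h2 : orderOf u ∣ p ^ j := hj ▸ Subgroup.orderOf_dvd_natCard U hu
    exact orderOf_eq_one_iff.mp (Nat.eq_one_of_dvd_coprimes
      (((Nat.coprime_primes hp.out (Fact.out : r.Prime)).mpr hpr).pow j m) h2
      (orderOf_dvd_of_pow_eq_one hym))
  rw [hu1, mul_one] at e
  exact ⟨e ▸ hρ, hyC⟩

/-- In the abelian-fixed-points setting, with `R` faithful on the `p`-group `U` and everything
normalized by `Y`, the group `Y` centralizes `R`. -/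
theorem Pl.centralizes_faithful [Finite X] (h : Pl A H q) {p r : ℕ} [Fact p.Prime] [Fact r.Prime]
    (hpr : p ≠ r) {U R Y : Subgroup X} (hU : IsPGroup p U) (hR : IsPGroup r R)
    (hUH : U ≤ H) (hRH : R ≤ H) (hYH : Y ≤ H) (hUA : A ≤ Subgroup.normalizer (U : Set X))
    (hRA : A ≤ Subgroup.normalizer (R : Set X)) (hYA : A ≤ Subgroup.normalizer (Y : Set X))
    (hRU : R ≤ Subgroup.normalizer (U : Set X)) (hYU : Y ≤ Subgroup.normalizer (U : Set X))
    (hYR : Y ≤ Subgroup.normalizer (R : Set X))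
    (hfaith : R ⊓ Subgroup.centralizer (U : Set X) = ⊥) {b : X} (hb : b ∈ A) (hb1 : b ≠ 1)
    (hYb : ∀ y ∈ Y, b * y = y * b) : Y ≤ Subgroup.centralizer (R : Set X) := by
  set N := ⁅U, U⁆ with hN
  have hNU : N ≤ U := Subgroup.commutator_le_self U
  set Z := Subgroup.normalizer (N : Set X) with hZ
  have hAZ : A ≤ Z := le_normalizer_commutator hUA hUA
  have hUZ : U ≤ Z := le_normalizer_commutator Subgroup.le_normalizer Subgroup.le_normalizer
  have hRZ : R ≤ Z := le_normalizer_commutator hRU hRU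
  have hYZ : Y ≤ Z := le_normalizer_commutator hYU hYU
  haveI : (N.subgroupOf Z).Normal := Subgroup.normal_in_normalizer
  set f := QuotientGroup.mk' (N.subgroupOf Z) with hf
  set H₀ := H ⊓ Z with hH₀
  have hH₀A : A ≤ Subgroup.normalizer (H₀ : Set X) :=
    le_normalizer_inf_of_le h.norm (hAZ.trans Subgroup.le_normalizer)
  have h0 := (h.mono inf_le_left hH₀A).subgroupOf hAZ inf_le_right
  have hker : f.ker ⊓ A.subgroupOf Z = ⊥ := by
    rw [hf, QuotientGroup.ker_mk', Subgroup.eq_bot_iff_forall]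
    intro x hx
    have h1 : (x : X) ∈ A ⊓ N := ⟨hx.2, hx.1⟩
    rw [inf_eq_bot_of_coprime_card ((h.coprime_sub hUH).coprime_dvd_right
      (Subgroup.card_dvd_of_le hNU)), Subgroup.mem_bot] at h1
    exact Subtype.ext h1
  have h' := h0.map f hker
  let img : Subgroup X → Subgroup _ := fun W => (W.subgroupOf Z).map f
  have himgle : ∀ {W : Subgroup X}, W ≤ H₀ → img W ≤ img H₀ := fun hW =>
    Subgroup.map_mono fun x hx => hW hx
  have himgn : ∀ {W V : Subgroup X}, V ≤ Z → W ≤ Subgroup.normalizer (V : Set X) →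
      img W ≤ Subgroup.normalizer (img V : Set _) := by
    intro W V _ hWV
    refine (Subgroup.map_mono ?_).trans (Subgroup.le_normalizer_map f)
    intro x hx
    refine mem_normalizer_of_conj_le fun v hv => ?_
    simp only [Subgroup.mem_subgroupOf] at hv ⊢
    simpa using conj_mem (hWV hx) hv
  haveI : IsMulCommutative ↥(img U) := by
    refine ⟨⟨?_⟩⟩
    rintro ⟨_, x, hx, rfl⟩ ⟨_, y, hy, rfl⟩
    refine Subtype.ext ?_
    show f x * f y = f y * f x
    rw [← map_mul, ← map_mul, hf, QuotientGroup.mk'_apply, QuotientGroup.mk'_apply, QuotientGroup.eq,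
      Subgroup.mem_subgroupOf]
    have := Subgroup.commutator_mem_commutator (inv_mem hy : (y : X)⁻¹ ∈ U) (inv_mem hx : (x : X)⁻¹ ∈ U)
    rw [commutatorElement_def] at this
    simpa [mul_assoc] using this
  have hRimg : IsPGroup r ↥(img R) := (hR.comap_of_injective Z.subtype Z.subtype_injective).map f
  have hcop : (Nat.card ↥(img R)).Coprime (Nat.card ↥(img U)) :=
    isPGroup_coprime hpr.symm hRimg ((hU.comap_of_injective Z.subtype Z.subtype_injective).map f)
  have hfaith' : img R ⊓ Subgroup.centralizer (img U : Set _) = ⊥ := by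
    rw [Subgroup.eq_bot_iff_forall]
    rintro _ ⟨⟨x, hx, rfl⟩, hxC⟩
    have hxR : (x : X) ∈ R := hx
    set R₀ := Subgroup.zpowers (x : X) with hR₀
    have hR₀U : R₀ ≤ Subgroup.normalizer (U : Set X) :=
      (Subgroup.zpowers_le.mpr hxR).trans hRU
    have hR₀N : R₀ ≤ Subgroup.normalizer (N : Set X) := (Subgroup.zpowers_le.mpr hxR).trans hRZ
    have hall : ∀ g ∈ R₀, ∀ u ∈ U, u⁻¹ * (g * u * g⁻¹) ∈ N := by
      intro g hg u hu
      obtain ⟨i, rfl⟩ := Subgroup.mem_zpowers_iff.mp hg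
      have h1 : Commute (f ⟨u, hUZ hu⟩) (f x) := hxC _ ⟨⟨u, hUZ hu⟩, hu, rfl⟩
      have h2 := (h1.zpow_right i).eq
      rw [← map_zpow, ← map_mul, ← map_mul, hf, QuotientGroup.mk'_apply, QuotientGroup.mk'_apply,
        QuotientGroup.eq, Subgroup.mem_subgroupOf] at h2
      have h3 : ((x : X) ^ i * u)⁻¹ * (u * (x : X) ^ i) ∈ N := by
        have h4 := inv_mem h2
        simpa [mul_assoc] using h4
      have h5 := conj_mem (hR₀N (zpow_mem (Subgroup.mem_zpowers (x : X)) i)) (inv_mem h3)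
      rw [show (x : X) ^ i * (((x : X) ^ i * u)⁻¹ * (u * (x : X) ^ i))⁻¹ * ((x : X) ^ i)⁻¹
        = u⁻¹ * ((x : X) ^ i * u * ((x : X) ^ i)⁻¹) by group] at h5
      exact h5
    have hle : U ≤ (U ⊓ Subgroup.centralizer (R₀ : Set X)) ⊔ ⁅U, U⁆ := by
      intro u hu
      haveI := hU.isNilpotent
      obtain ⟨c, hc, hcN⟩ := exists_centralizer_mem_coset hR₀U
        ((isPGroup_coprime hpr.symm hR hU).coprime_dvd_left
          (Subgroup.card_dvd_of_le (Subgroup.zpowers_le.mpr hxR)))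
        (Or.inr inferInstance) hNU hR₀N hu (fun g hg => hall g hg u hu)
      have h6 := mul_mem (Subgroup.mem_sup_left (T := ⁅U, U⁆) hc)
        (Subgroup.mem_sup_right (S := U ⊓ Subgroup.centralizer (R₀ : Set X)) (inv_mem hcN))
      simpa [mul_assoc] using h6
    have h7 := (le_of_le_sup_commutator hU inf_le_left hle).trans inf_le_right
    have h8 : (x : X) ∈ R ⊓ Subgroup.centralizer (U : Set X) :=
      ⟨hxR, fun u hu => (h7 hu x (Subgroup.mem_zpowers _)).symm⟩
    rw [hfaith, Subgroup.mem_bot] at h8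
    rw [show x = 1 from Subtype.ext h8, map_one]
  have key := h'.le_centralizer_of_faithful hRimg (V := img U) (Y := img Y)
    (himgle (le_inf hUH hUZ)) (himgle (le_inf hRH hRZ)) (himgle (le_inf hYH hYZ))
    (himgn hUZ hUA) (himgn hRZ hRA) (himgn hYZ hYA) (himgn hUZ hRU) (himgn hUZ hYU) (himgn hRZ hYR)
    hcop hfaith' (b := f ⟨b, hAZ hb⟩) (Subgroup.mem_map_of_mem f hb) ?_ ?_
  · intro y hy z hz
    have h1 := key ⟨⟨y, hYZ hy⟩, hy, rfl⟩ _ ⟨⟨z, hRZ hz⟩, hz, rfl⟩
    rw [← map_mul, ← map_mul, hf, QuotientGroup.mk'_apply, QuotientGroup.mk'_apply, QuotientGroup.eq,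
      Subgroup.mem_subgroupOf] at h1
    simp only [InvMemClass.coe_inv, Subgroup.coe_mul] at h1
    have h2 : (z * y)⁻¹ * (y * z) ∈ N ⊓ R := by
      refine ⟨h1, ?_⟩
      rw [show (z * y)⁻¹ * (y * z) = (y⁻¹ * z⁻¹ * y) * z by group]
      exact mul_mem (conj_inv_mem (hYR hy) (inv_mem hz)) hz
    rw [inf_eq_bot_of_isPGroup hpr (hU.to_le hNU) hR, Subgroup.mem_bot, inv_mul_eq_one] at h2
    exact h2
  · intro e
    apply hb1
    have h1 : (⟨b, hAZ hb⟩ : Z) ∈ f.ker ⊓ A.subgroupOf Z := ⟨e, hb⟩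
    rw [hker, Subgroup.mem_bot] at h1
    exact congrArg Subtype.val h1
  · rintro _ ⟨y, hy, rfl⟩
    rw [← map_mul, ← map_mul]
    exact congrArg f (Subtype.ext (hYb y hy))

theorem structure_aux (n : ℕ) : ∀ {X : Type u} [Group X] [Finite X] {A K Q R : Subgroup X}
    {q p r : ℕ} [Fact p.Prime] [Fact r.Prime], p ≠ r → Nat.card K = n → Pl A K q →
    Group.IsSolvable K → IsTwo p r K → InvSyl A p K Q → InvSyl A r K R →
    K ≤ Subgroup.normalizer ((Q ⊔ cor K R : Subgroup X) : Set X) := by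
  induction n using Nat.strong_induction_on with
  | _ n IH =>
  intro X _ _ A K Q R q p r _ _ hpr hn h hsol h2 hQ hR
  rcases eq_or_ne K ⊥ with rfl | hK
  · exact bot_le
  -- passing to the quotient by a nontrivial normal subgroup
  have quot : ∀ {a b : ℕ} [Fact a.Prime] [Fact b.Prime], a ≠ b → IsTwo a b K → ∀ {Q R : Subgroup X},
      InvSyl A a K Q → InvSyl A b K R → cor K R ≠ ⊥ →
      K ≤ Subgroup.normalizer ((Q ⊔ cor K R : Subgroup X) : Set X) := by
    intro a b _ _ hab h2 Q R hQ hR hT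
    set N := cor K R with hN
    set Z := Subgroup.normalizer (N : Set X) with hZ
    have hNK : N ≤ K := (cor_le K R).trans hR.1
    have hKZ : K ≤ Z := le_normalizer_cor K R
    have hAZ : A ≤ Z := cor_invariant h.norm hR.2.1
    haveI : (N.subgroupOf Z).Normal := Subgroup.normal_in_normalizer
    set f := QuotientGroup.mk' (N.subgroupOf Z) with hf
    have hker : f.ker ⊓ A.subgroupOf Z = ⊥ := by
      rw [hf, QuotientGroup.ker_mk', Subgroup.eq_bot_iff_forall]
      intro x hx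
      have h1 : (x : X) ∈ A ⊓ N := ⟨hx.2, hx.1⟩
      rw [inf_eq_bot_of_coprime_card (h.coprime_sub hNK), Subgroup.mem_bot] at h1
      exact Subtype.ext h1
    have hker' : f.ker ≤ K.subgroupOf Z := by
      rw [hf, QuotientGroup.ker_mk']
      exact fun x hx => hNK hx
    have hlt : Nat.card ↥((K.subgroupOf Z).map f) < n := by
      have h1 : Nat.card ↥((K.subgroupOf Z).map f) * Nat.card ↥(f.ker ⊓ K.subgroupOf Z : Subgroup Z)
          = Nat.card ↥(K.subgroupOf Z) := by
        have h2 := relIndex_mul_card_inf f.ker (K.subgroupOf Z)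
        rwa [Subgroup.relIndex_ker] at h2
      rw [inf_eq_left.mpr hker', hf, QuotientGroup.ker_mk',
        Nat.card_congr (Subgroup.subgroupOfEquivOfLe (hNK.trans hKZ)).toEquiv,
        Nat.card_congr (Subgroup.subgroupOfEquivOfLe hKZ).toEquiv, hn] at h1
      have h3 : 1 < Nat.card N := N.one_lt_card_iff_ne_bot.mpr hT
      rw [← h1]
      exact lt_mul_of_one_lt_right Nat.card_pos h3
    have hsol' : Group.IsSolvable ↥((K.subgroupOf Z).map f) :=
      isSolvable_map f (Group.isSolvable_of_surjective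
        (f := (Subgroup.subgroupOfEquivOfLe hKZ).symm.toMonoidHom)
        (Subgroup.subgroupOfEquivOfLe hKZ).symm.surjective)
    have hQ' := (hQ.subgroupOf hAZ hKZ).map f hker'
    have hR' := (hR.subgroupOf hAZ hKZ).map f hker'
    have h' := (h.subgroupOf hAZ hKZ).map f hker
    have h2' : IsTwo a b ((K.subgroupOf Z).map f) := by
      refine IsTwo.map ?_ f
      intro s hs hd
      exact h2 s hs (by rwa [Nat.card_congr (Subgroup.subgroupOfEquivOfLe hKZ).toEquiv] at hd)
    have hRZ : R ≤ Z := hR.1.trans hKZ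
    have hcor : cor ((K.subgroupOf Z).map f) ((R.subgroupOf Z).map f) = ⊥ := by
      set W' := cor ((K.subgroupOf Z).map f) ((R.subgroupOf Z).map f) with hW'
      set W := (W'.comap f).map Z.subtype with hW
      have hWR : W ≤ R := by
        rintro _ ⟨x, hx, rfl⟩
        obtain ⟨z, hz, e⟩ := cor_le _ _ (Subgroup.mem_comap.mp hx)
        have h5 : z⁻¹ * x ∈ N.subgroupOf Z := QuotientGroup.eq.mp e
        have h6 : (z : X)⁻¹ * x ∈ R := cor_le K R h5
        simpa using mul_mem (show (z : X) ∈ R from hz) h6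
      have hWn : K ≤ Subgroup.normalizer (W : Set X) := by
        intro k hk
        refine mem_normalizer_of_conj_le ?_
        rintro _ ⟨x, hx, rfl⟩
        refine ⟨⟨k, hKZ hk⟩ * x * ⟨k, hKZ hk⟩⁻¹, ?_, by simp⟩
        rw [SetLike.mem_coe, Subgroup.mem_comap, map_mul, map_mul, map_inv]
        exact conj_mem (le_normalizer_cor _ _ (Subgroup.mem_map_of_mem f hk)) hx
      have h7 : W ≤ N := le_cor hWR hWn
      rw [Subgroup.eq_bot_iff_forall]
      intro y hy
      obtain ⟨x, rfl⟩ := QuotientGroup.mk'_surjective (N.subgroupOf Z) y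
      exact (QuotientGroup.eq_one_iff x).mpr (h7 ⟨x, hy, rfl⟩)
    have key := IH _ hlt hab rfl h' hsol' h2' hQ' hR'
    rw [hcor, sup_bot_eq] at key
    intro k hk
    refine mem_normalizer_of_conj_le fun x hx => ?_
    have hQZ : Q ≤ Z := hQ.1.trans hKZ
    have hxZ : x ∈ Z := (sup_le hQZ (hNK.trans hKZ)) hx
    set k' : Z := ⟨k, hKZ hk⟩
    set x' : Z := ⟨x, hxZ⟩
    have hx' : f x' ∈ (Q.subgroupOf Z).map f := by
      have h4 : x' ∈ Q.subgroupOf Z ⊔ f.ker := by
        rw [hf, QuotientGroup.ker_mk', ← Subgroup.subgroupOf_sup hQZ (hNK.trans hKZ)]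
        exact hx
      rw [← Subgroup.comap_map_eq] at h4
      exact h4
    have h5 : f (k' * x' * k'⁻¹) ∈ (Q.subgroupOf Z).map f := by
      rw [map_mul, map_mul, map_inv]
      exact conj_mem (key (Subgroup.mem_map_of_mem f hk)) hx'
    rw [← Subgroup.mem_comap, Subgroup.comap_map_eq, hf, QuotientGroup.ker_mk',
      ← Subgroup.subgroupOf_sup hQZ (hNK.trans hKZ)] at h5
    exact h5
  rcases eq_or_ne (cor K R) ⊥ with hT | hT
  swap
  · exact quot hpr h2 hQ hR hT
  rw [hT, sup_bot_eq]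
  -- now `O_r(K) = 1`, hence `U = O_p(K) ≠ 1`
  set U := cor K Q with hU
  have hUne : U ≠ ⊥ := by
    haveI := hsol
    haveI : Nontrivial K := (Subgroup.nontrivial_iff_ne_bot K).mpr hK
    obtain ⟨s, hs, N, hN, hNne, hNp, -⟩ := Hall.exists_normal_pgroup_ne_bot (G := K)
    haveI := Fact.mk hs
    set N' := N.map K.subtype
    have hN'K : N' ≤ K := Subgroup.map_subtype_le N
    have hN'n : K ≤ Subgroup.normalizer (N' : Set X) := by
      intro k hk
      refine mem_normalizer_of_conj_le ?_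
      rintro _ ⟨x, hx, rfl⟩
      exact ⟨⟨k, hk⟩ * x * ⟨k, hk⟩⁻¹, hN.conj_mem x hx _, by simp⟩
    have hN'p : IsPGroup s N' := hNp.map _
    have hN'ne : N' ≠ ⊥ := fun e => hNne ((Subgroup.map_eq_bot_iff_of_injective _ K.subtype_injective).mp e)
    have hsd : s ∣ Nat.card K := by
      obtain ⟨m, hm⟩ := IsPGroup.iff_card.mp hN'p
      have hm0 : m ≠ 0 := fun e => hN'ne (Subgroup.card_eq_one.mp (by rw [hm, e, pow_zero]))
      exact ((dvd_pow_self s hm0).trans (hm ▸ dvd_rfl)).trans (Subgroup.card_dvd_of_le hN'K)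
    rcases h2 s hs hsd with rfl | rfl
    · exact fun e => hN'ne (le_bot_iff.mp (e ▸ le_cor (le_sylow_of_normal hQ hN'K hN'n hN'p) hN'n))
    · exact fun _ => hN'ne (le_bot_iff.mp (hT ▸ le_cor (le_sylow_of_normal hR hN'K hN'n hN'p) hN'n))
  have hKRU := quot hpr.symm h2.symm hR hQ hUne
  have hUQ : U ≤ Q := cor_le K Q
  have hUp : IsPGroup p U := hQ.2.2.1.to_le hUQ
  have hKU : K ≤ Subgroup.normalizer (U : Set X) := le_normalizer_cor K Q
  have hUA : A ≤ Subgroup.normalizer (U : Set X) := cor_invariant h.norm hQ.2.1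
  have hfaith : R ⊓ Subgroup.centralizer (U : Set X) = ⊥ := le_bot_iff.mp (hT ▸ le_cor inf_le_left
    (le_normalizer_centralizer_inf hpr hUp hR.2.2.1 hKU hKRU (hR.1.trans hKU)))
  set Y := Q ⊓ Subgroup.normalizer (R : Set X) with hY
  have hYA : A ≤ Subgroup.normalizer (Y : Set X) :=
    le_normalizer_inf_of_le hQ.2.1 (hR.2.1.trans Subgroup.le_normalizer)
  have hYC : Y ≤ Subgroup.centralizer (R : Set X) := by
    refine h.le_of_ln (inf_le_left.trans hQ.1) hYA fun b hb hb1 => ?_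
    have hb' : ln Y b ≤ Q ⊓ Subgroup.normalizer (R : Set X) := ln_le Y b
    exact h.centralizes_faithful hpr hUp hR.2.2.1 (hUQ.trans hQ.1) hR.1
      ((hb'.trans inf_le_left).trans hQ.1) hUA hR.2.1 (h.norm_ln hYA hb) (hR.1.trans hKU)
      (((hb'.trans inf_le_left).trans hQ.1).trans hKU) (hb'.trans inf_le_right) hfaith hb hb1
      fun y hy => (mem_ln.mp hy).2
  -- Frattini: `Q = U Y`
  have hQUY : Q ≤ U ⊔ Y := by
    intro x hx
    have hxK : x ∈ K := hQ.1 hx
    set M := R ⊔ U with hM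
    set R₁ := MulAut.conj x • R with hR₁
    have hR₁M : R₁ ≤ M := by
      rintro _ ⟨z, hz, rfl⟩
      exact conj_mem (hKRU hxK) (Subgroup.mem_sup_left hz)
    have hMR : R ≤ Subgroup.normalizer (U : Set X) := hR.1.trans hKU
    have hMc : Nat.card M = Nat.card U * Nat.card R := by
      rw [hM, sup_comm]
      exact card_sup_of_coprime hMR (isPGroup_coprime hpr hUp hR.2.2.1)
    have hi : ∀ W : Subgroup X, W ≤ M → Nat.card W = Nat.card R →
        ¬ r ∣ W.relIndex M := by
      intro W hW hc hd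
      have h1 := Subgroup.relIndex_mul_relIndex ⊥ W M bot_le hW
      simp only [Subgroup.relIndex_bot_left, hc, hMc] at h1
      have h2 : W.relIndex M = Nat.card U := by
        rw [mul_comm (Nat.card U)] at h1
        exact Nat.eq_of_mul_eq_mul_left Nat.card_pos h1
      obtain ⟨j, hj⟩ := IsPGroup.iff_card.mp hUp
      rw [h2, hj] at hd
      exact hpr ((Nat.prime_dvd_prime_iff_eq (Fact.out : r.Prime) (Fact.out : p.Prime)).mp
        ((Fact.out : r.Prime).dvd_of_dvd_pow hd)).symm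
    have hSyl : ∀ W : Subgroup X, W ≤ M → IsPGroup r W → Nat.card W = Nat.card R →
        ∃ S : Sylow r M, (S : Subgroup M).map M.subtype = W := by
      intro W hW hp' hc
      refine ⟨(hp'.comap_of_injective M.subtype M.subtype_injective).toSylow ?_, ?_⟩
      · have := hi W hW hc
        rwa [Subgroup.relIndex] at this
      · exact Subgroup.map_subgroupOf_eq_of_le hW
    obtain ⟨S, hS⟩ := hSyl R le_sup_left hR.2.2.1 rfl
    obtain ⟨S₁, hS₁⟩ := hSyl R₁ hR₁M (hR.2.2.1.map _) (card_conj_smul x R)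
    obtain ⟨m, hm⟩ := MulAction.exists_smul_eq M S S₁
    have e : MulAut.conj (m : X) • R = MulAut.conj x • R := by
      rw [← hS, ← map_subtype_conj_smul_sylow, hm, hS₁, hS, hR₁]
    obtain ⟨u, hu, ρ, hρ, hm'⟩ : ∃ u ∈ U, ∃ ρ ∈ R, (m : X) = u * ρ := by
      have h1 : (m : X) ∈ U ⊔ R := by rw [sup_comm]; exact m.2
      rw [← SetLike.mem_coe, Subgroup.coe_mul_of_right_le_normalizer_left U R hMR, Set.mem_mul] at h1
      obtain ⟨u, hu, ρ, hρ, e⟩ := h1
      exact ⟨u, hu, ρ, hρ, e.symm⟩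
    have e2 : u⁻¹ * x ∈ Subgroup.normalizer (R : Set X) := by
      rw [mem_normalizer_iff_conj_smul, map_mul, mul_smul, ← e, hm', map_mul, mul_smul,
        conj_smul_eq_of_mem hρ, ← mul_smul, ← map_mul, inv_mul_cancel, map_one, one_smul]
    have h3 : u⁻¹ * x ∈ Y := Subgroup.mem_inf.mpr ⟨Q.mul_mem (Q.inv_mem (hUQ hu)) hx, e2⟩
    have h4 := mul_mem (Subgroup.mem_sup_left (T := Y) hu) (Subgroup.mem_sup_right (S := U) h3)
    simpa using h4
  have hRQ : R ≤ Subgroup.normalizer (Q : Set X) := by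
    intro ρ hρ
    refine mem_normalizer_of_conj_le fun x hx => ?_
    have h1 := hQUY hx
    rw [← SetLike.mem_coe, Subgroup.coe_mul_of_right_le_normalizer_left U Y
      ((inf_le_left.trans hQ.1).trans hKU), Set.mem_mul] at h1
    obtain ⟨u, hu, y, hy, rfl⟩ := h1
    have h3 : ρ * y = y * ρ := hYC hy ρ hρ
    have h4 : ρ * (u * y) * ρ⁻¹ = (ρ * u * ρ⁻¹) * y := by
      calc ρ * (u * y) * ρ⁻¹ = (ρ * u * ρ⁻¹) * (ρ * y) * ρ⁻¹ := by group
        _ = (ρ * u * ρ⁻¹) * (y * ρ) * ρ⁻¹ := by rw [h3]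
        _ = _ := by group
    rw [h4]
    exact mul_mem (hUQ (conj_mem (hKU (hR.1 hρ)) hu)) hy.1
  exact (sup_invSyl_eq hQ hR h2).ge.trans (sup_le Subgroup.le_normalizer hRQ)

/-- In a solvable invariant group of order `p ^ i * r ^ j` the invariant Sylow `p`-subgroup times
`O_r` is normal. -/
theorem Pl.structure_two [Finite X] (h : Pl A H q) {K Q R : Subgroup X} {p r : ℕ} [Fact p.Prime]
    [Fact r.Prime] (hpr : p ≠ r) (hK : K ≤ H) (hKA : A ≤ Subgroup.normalizer (K : Set X))
    (hsol : Group.IsSolvable K) (h2 : IsTwo p r K) (hQ : InvSyl A p K Q) (hR : InvSyl A r K R) :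
    K ≤ Subgroup.normalizer ((Q ⊔ cor K R : Subgroup X) : Set X) :=
  structure_aux _ hpr rfl (h.mono hK hKA) hsol h2 hQ hR

end CfsgLib.CoprimePlane
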